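import Cfsg.Agent.Lib.Fus.ClosedPair.Main
import Cfsg.Prelude.Def_TwoFusion

/-!
# No commuting closed subgroup and closed set of involutions in a simple group
-/

set_option autoImplicit false
set_option linter.style.haveILetI false

namespace Cfsg.Agent.Transfer.CentralFour

open Subgroup

universe u

variable {X : Type u} [Group X] [Finite X]

theorem center_eq_bot [IsSimpleGroup X] (hX : ¬ IsMulCommutative X) : center X = ⊥ :=
  ((inferInstance : (center X).Normal).eq_bot_or_eq_top).resolve_right fun h =>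
    hX ⟨⟨fun a b => mem_center_iff.1 (h ▸ mem_top b) a⟩⟩

/-- A strongly closed subgroup commuting with a closed set of involutions outside it is trivial. -/
theorem eq_bot_of_pair [IsSimpleGroup X] (hX : ¬ IsMulCommutative X) (hO : Cfsg.pPrimeCore 2 X = ⊥)
    (P : Sylow 2 X) (R : Subgroup X) (hR : Cfsg.IsStronglyClosed R (P : Subgroup X))
    (Y : Set X) {y₀ : X} (hy₀ : y₀ ∈ Y) (hY2 : ∀ y ∈ Y, orderOf y = 2) (hYP : Y ⊆ (P : Subgroup X))
    (hYcl : ∀ y ∈ Y, ∀ g : X, g * y * g⁻¹ ∈ (P : Subgroup X) → g * y * g⁻¹ ∈ Y)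
    (hYmul : ∀ y ∈ Y, ∀ y' ∈ Y, y ≠ y' → Commute y y' → y * y' ∈ Y)
    (hdisj : ∀ y ∈ Y, y ∉ R) (hcomm : ∀ r ∈ R, ∀ y ∈ Y, Commute r y) : R = ⊥ := by
  haveI : Fact (Nat.Prime 2) := ⟨Nat.prime_two⟩
  let K : Set X := {a | a ≠ 1 ∧ ∃ g : X, g * a * g⁻¹ ∈ R}
  let Y' : Set X := {y | ∃ g : X, g * y * g⁻¹ ∈ Y}
  have toR : ∀ {a : X}, a ∈ K → ∀ {g : X}, g * a * g⁻¹ ∈ (P : Subgroup X) → g * a * g⁻¹ ∈ R := by
    intro a ha g hg
    obtain ⟨-, h, hh⟩ := ha
    have := hR.2 _ hh (g * h⁻¹)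
    rw [show g * h⁻¹ * (h * a * h⁻¹) * (g * h⁻¹)⁻¹ = g * a * g⁻¹ by group] at this
    exact this hg
  have toY : ∀ {a : X}, a ∈ Y' → ∀ {g : X}, g * a * g⁻¹ ∈ (P : Subgroup X) → g * a * g⁻¹ ∈ Y := by
    intro a ha g hg
    obtain ⟨h, hh⟩ := ha
    have := hYcl _ hh (g * h⁻¹)
    rw [show g * h⁻¹ * (h * a * h⁻¹) * (g * h⁻¹)⁻¹ = g * a * g⁻¹ by group] at this
    exact this hg
  have move : ∀ T : Subgroup X, IsPGroup 2 T → ∃ g : X, ∀ t ∈ T, g * t * g⁻¹ ∈ (P : Subgroup X) := by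
    intro T hT
    obtain ⟨S, hS⟩ := hT.exists_le_sylow
    obtain ⟨g, hg⟩ := MulAction.exists_smul_eq X S P
    refine ⟨g, fun t ht => ?_⟩
    rw [← hg, Sylow.coe_subgroup_smul, ← Grp.map_conj_eq_smul]
    exact ⟨t, hS ht, rfl⟩
  have hinj : ∀ (g a : X), orderOf (g * a * g⁻¹) = orderOf a := fun g a =>
    orderOf_injective (MulAut.conj g).toMonoidHom (MulAut.conj g).injective a
  have conjK : ∀ g : X, ∀ a ∈ K, g * a * g⁻¹ ∈ K := by
    rintro g a ⟨ha, h, hh⟩
    refine ⟨fun e => ha (conj_eq_one_iff.1 e), h * g⁻¹, ?_⟩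
    rw [show h * g⁻¹ * (g * a * g⁻¹) * (h * g⁻¹)⁻¹ = h * a * h⁻¹ by group]
    exact hh
  have hdisjK : ∀ a ∈ K, a ∉ Y' := fun a ha ⟨g, hg⟩ => hdisj _ hg (toR ha (hYP hg))
  have H : Fus.ClosedPair.PairSets X K Y' :=
    { inv₁ := fun x hx => hx.2
      inv₂ := fun y ⟨g, hg⟩ => hinj g y ▸ hY2 _ hg
      conj₁ := fun g x hx => ⟨conjK g x hx.1, (hinj g x).trans hx.2⟩
      conj₂ := fun g y ⟨h, hh⟩ => ⟨h * g⁻¹, by
        rw [show h * g⁻¹ * (g * y * g⁻¹) * (h * g⁻¹)⁻¹ = h * y * h⁻¹ by group]; exact hh⟩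
      disj := fun x hx => hdisjK x hx.1
      comm := fun T hT x hx hxT y hy hyT => by
        obtain ⟨g, hg⟩ := move T hT
        exact (commute_iff_eq _ _).2 ((MulAut.conj g).injective (by
          simpa [mul_assoc] using (hcomm _ (toR hx.1 (hg x hxT)) _ (toY hy (hg y hyT))).eq))
      conjK := conjK
      two := fun a ⟨ha, g, hg⟩ => ⟨ha, by
        obtain ⟨n, hn⟩ := IsPGroup.iff_orderOf.1 P.isPGroup' ⟨_, hR.1 hg⟩
        rw [Subgroup.orderOf_mk, hinj] at hn
        exact ⟨n, hn⟩⟩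
      mulK := fun T hT a ha haT b hb hbT hab => by
        obtain ⟨g, hg⟩ := move T hT
        refine ⟨hab, g, ?_⟩
        have := R.mul_mem (toR ha (hg a haT)) (toR hb (hg b hbT))
        rwa [show g * a * g⁻¹ * (g * b * g⁻¹) = g * (a * b) * g⁻¹ by group] at this
      disjK := hdisjK
      mul₂ := fun y hy y' hy' hne hc => by
        have hp : IsPGroup 2 ↥(zpowers y ⊔ zpowers y') := by
          have hz : ∀ {w : X}, w ∈ Y' → IsPGroup 2 (zpowers w) := fun {w} ⟨g, hg⟩ =>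
            IsPGroup.of_card (n := 1) (by rw [Nat.card_zpowers, pow_one, ← hinj g w, hY2 _ hg])
          refine (hz hy).to_sup_of_normal_right' (hz hy') (zpowers_le.2 (mem_normalizer_iff.2 fun w => ?_))
          constructor
          · intro hw
            obtain ⟨i, rfl⟩ := mem_zpowers_iff.1 hw
            exact mem_zpowers_iff.2 ⟨i, ((hc.zpow_right i).eq ▸ (mul_inv_cancel_right _ y).symm)⟩
          · intro hw
            obtain ⟨i, hi⟩ := mem_zpowers_iff.1 hw
            refine mem_zpowers_iff.2 ⟨i, ?_⟩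
            apply (MulAut.conj y).injective
            simp only [MulAut.conj_apply]
            rw [(hc.zpow_right i).eq, mul_inv_cancel_right, hi]
        obtain ⟨g, hg⟩ := move _ hp
        refine ⟨g, ?_⟩
        have := hYmul _ (toY hy (hg y (mem_sup_left (mem_zpowers y)))) _
          (toY hy' (hg y' (mem_sup_right (mem_zpowers y')))) (fun e => hne (by simpa using e))
          (hc.map (MulAut.conj g).toMonoidHom)
        rwa [show g * y * g⁻¹ * (g * y' * g⁻¹) = g * (y * y') * g⁻¹ by group] at this }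
  by_contra hne
  haveI : Nontrivial R := (Subgroup.nontrivial_iff_ne_bot R).2 hne
  obtain ⟨i, hi⟩ := IsPGroup.iff_card.1 (P.isPGroup'.to_le hR.1)
  have hR1 : 1 < Nat.card R := Finite.one_lt_card
  obtain ⟨r, hr⟩ := exists_prime_orderOf_dvd_card' (G := R) 2 (by
    rcases i with _ | i
    · rw [hi, pow_zero] at hR1; omega
    · exact hi ▸ dvd_pow_self 2 (Nat.succ_ne_zero i))
  have hr' : orderOf (r : X) = 2 := by rw [Subgroup.orderOf_coe, hr]
  have hr1 : (r : X) ≠ 1 := fun e => by rw [e, orderOf_one] at hr'; omega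
  have hrK : (r : X) ∈ K := ⟨hr1, 1, by simp⟩
  have hrr : (r : X)⁻¹ = r :=
    inv_eq_of_mul_eq_one_right (by rw [← pow_two, ← hr', pow_orderOf_eq_one])
  have hcen : ∀ y ∈ Y', y ∈ centralizer ({(r : X)} : Set X) := by
    intro y hy
    have h1 := H.mem_core hrK hr' hy
    rw [hO, mem_bot] at h1
    have hy2 : y⁻¹ = y := inv_eq_of_mul_eq_one_right (by rw [← pow_two, ← H.inv₂ y hy, pow_orderOf_eq_one])
    rw [mem_centralizer_singleton_iff]
    have h2 : (r : X) * y = y⁻¹ * (r : X)⁻¹ := by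
      calc (r : X) * y = (r * y * r * y) * (y⁻¹ * (r : X)⁻¹) := by group
        _ = _ := by rw [h1, one_mul]
    rw [hy2, hrr] at h2
    exact h2.symm
  have htop : normalClosure ({y₀} : Set X) = ⊤ := normalClosure_normal.eq_bot_or_eq_top.resolve_left fun e => by
    have := subset_normalClosure (Set.mem_singleton y₀)
    rw [e, SetLike.mem_coe, mem_bot] at this
    have h2 := hY2 _ hy₀
    rw [this, orderOf_one] at h2
    omega
  have hle : normalClosure ({y₀} : Set X) ≤ centralizer ({(r : X)} : Set X) := by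
    rw [normalClosure, closure_le]
    intro w hw
    obtain ⟨a, ha, hc⟩ := Group.mem_conjugatesOfSet_iff.1 hw
    rw [Set.mem_singleton_iff] at ha
    subst ha
    obtain ⟨g, rfl⟩ := isConj_iff.1 hc
    exact hcen _ ⟨g⁻¹, by rwa [show g⁻¹ * (g * a * g⁻¹) * g⁻¹⁻¹ = a by group]⟩
  have : (r : X) ∈ center X := mem_center_iff.2 fun g =>
    mem_centralizer_singleton_iff.1 (hle (htop ▸ mem_top g))
  rw [center_eq_bot hX, mem_bot] at this
  exact hr1 this

end Cfsg.Agent.Transfer.CentralFour
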