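import Cfsg.Agent.Lib.Transfer.CentralFour.Pair
import Cfsg.Agent.Lib.Transfer.Burnside
import Cfsg.Agent.Lib.Transfer.Fusion
import Cfsg.Agent.Lib.Transfer.TwoByCyclic
import Cfsg.Agent.Lib.Transfer.HalfClasses

/-!
# Sylow 2-subgroups with centre of index four: the abelian subgroups of index two

Inside the normalizer of such a subgroup the conjugates of the non-trivial commutator `z` form at most
one triple, closed under products.
-/

set_option autoImplicit false
set_option linter.style.haveILetI false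
set_option linter.unusedSectionVars false

namespace Cfsg.Agent.Transfer.CentralFour

open Subgroup
open scoped Pointwise

universe u

variable {X : Type u} [Group X] [Finite X]

/-- The centre of index four of a Sylow subgroup and the commutator `z`. -/
structure Quarter (P : Sylow 2 X) (Z : Subgroup X) (z : X) : Prop where
  le : Z ≤ (P : Subgroup X)
  comm : ∀ w ∈ Z, ∀ a ∈ (P : Subgroup X), Commute w a
  cen : ∀ w ∈ (P : Subgroup X), (∀ a ∈ (P : Subgroup X), Commute w a) → w ∈ Z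
  card : Nat.card (P : Subgroup X) = 4 * Nat.card Z
  hz : z ∈ Z
  z1 : z ≠ 1
  zz : z * z = 1
  der : ∀ a ∈ (P : Subgroup X), ∀ b ∈ (P : Subgroup X), a * b * a⁻¹ = b ∨ a * b * a⁻¹ = z * b
  na : ∃ a ∈ (P : Subgroup X), ∃ b ∈ (P : Subgroup X), ¬ Commute a b

/-- A Sylow subgroup with centre of index four has such data. -/
theorem exists_quarter (P : Sylow 2 X) (hna : ¬ IsMulCommutative (P : Subgroup X))
    (hZ : (center (P : Subgroup X)).index = 4) :
    ∃ z, Quarter P ((center (P : Subgroup X)).map (P : Subgroup X).subtype) z := by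
  classical
  haveI : Fact (Nat.Prime 2) := ⟨Nat.prime_two⟩
  obtain ⟨a, b, hab⟩ : ∃ a b : (P : Subgroup X), a * b ≠ b * a := by
    by_contra h
    push Not at h
    exact hna ⟨⟨h⟩⟩
  set Zc := center (P : Subgroup X) with hZc
  set π := QuotientGroup.mk' Zc with hπ
  have hQ : Nat.card ((P : Subgroup X) ⧸ Zc) = 4 := by rw [← Subgroup.index_eq_card, hZ]
  have hker : ∀ x, π x = 1 ↔ x ∈ Zc := fun x => QuotientGroup.eq_one_iff x
  have hcz : ∀ w ∈ Zc, ∀ x, x * w = w * x := fun w hw x => mem_center_iff.1 hw x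
  have ha : π a ≠ 1 := fun e => hab ((hcz a ((hker a).1 e) b).symm)
  have hb : π b ≠ 1 := fun e => hab (hcz b ((hker b).1 e) a)
  have hne : π a ≠ π b := fun e => by
    have h1 : a⁻¹ * b ∈ Zc := (hker _).1 (by rw [map_mul, map_inv, e, inv_mul_cancel])
    have h2 := hcz _ h1 a
    rw [mul_inv_cancel_left] at h2
    exact hab (by
      calc a * b = a * (a⁻¹ * b * a) := by rw [← h2]
        _ = b * a := by group)
  have hab1 : π a * π b ≠ 1 := fun e => by
    have h1 : a * b ∈ Zc := (hker _).1 (by rw [map_mul, e])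
    have h2 := hcz _ h1 a
    exact hab (by
      calc a * b = a⁻¹ * (a * (a * b)) := by group
        _ = a⁻¹ * (a * b * a) := by rw [h2]
        _ = b * a := by group)
  have hcomm4 : ∀ p q : (P : Subgroup X) ⧸ Zc, p * q = q * p := by
    haveI := IsPGroup.isMulCommutative_of_card_eq_prime_sq (p := 2) (G := (P : Subgroup X) ⧸ Zc) (by rw [hQ]; rfl)
    exact fun p q => mul_comm' p q
  haveI := Fintype.ofFinite ((P : Subgroup X) ⧸ Zc)
  have hall : ∀ q : (P : Subgroup X) ⧸ Zc, q = 1 ∨ q = π a ∨ q = π b ∨ q = π a * π b := by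
    have huniv : ({1, π a, π b, π a * π b} : Finset ((P : Subgroup X) ⧸ Zc)) = Finset.univ := by
      refine Finset.eq_univ_of_card _ ?_
      rw [← Nat.card_eq_fintype_card, hQ, Finset.card_insert_of_notMem (by
        simp [Ne.symm ha, Ne.symm hb, Ne.symm hab1]), Finset.card_eq_three.2
        ⟨_, _, _, hne, fun e => hb (mul_eq_left.1 e.symm), fun e => ha (mul_eq_right.1 e.symm), rfl⟩]
    intro q
    have hq : q ∈ ({1, π a, π b, π a * π b} : Finset ((P : Subgroup X) ⧸ Zc)) := huniv ▸ Finset.mem_univ q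
    simpa using hq
  have coset : ∀ x, ∃ w ∈ Zc, x = w ∨ x = w * a ∨ x = w * b ∨ x = w * (a * b) := by
    intro x
    have key : ∀ y, π x = π y → x * y⁻¹ ∈ Zc := fun y e => (hker _).1 (by rw [map_mul, map_inv, e, mul_inv_cancel])
    rcases hall (π x) with e | e | e | e
    · exact ⟨x, (hker x).1 e, Or.inl rfl⟩
    · exact ⟨_, key a e, Or.inr (Or.inl (inv_mul_cancel_right x a).symm)⟩
    · exact ⟨_, key b e, Or.inr (Or.inr (Or.inl (inv_mul_cancel_right x b).symm))⟩
    · exact ⟨_, key (a * b) (by rw [map_mul, e]), Or.inr (Or.inr (Or.inr (inv_mul_cancel_right x (a * b)).symm))⟩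
  set c := b * a * b⁻¹ * a⁻¹ with hc
  have hcZ : c ∈ Zc := (hker _).1 (by
    rw [hc, map_mul, map_mul, map_mul, map_inv, map_inv, hcomm4 (π b) (π a), mul_inv_cancel_right, mul_inv_cancel])
  have hba : b * a * b⁻¹ = c * a := by rw [hc, inv_mul_cancel_right]
  have ha2 : a * a ∈ Zc := by
    refine (hker _).1 ?_
    rw [map_mul]
    rcases hall (π a * π a) with e | e | e | e
    · exact e
    · exact absurd (mul_eq_left.1 e) ha
    · exfalso
      have h1 : b * (a * a)⁻¹ ∈ Zc := (hker _).1 (by rw [map_mul, map_inv, map_mul, e, mul_inv_cancel])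
      refine hab ?_
      have h2 := hcz _ h1 a
      calc a * b = a * (b * (a * a)⁻¹) * (a * a) := by group
        _ = b * (a * a)⁻¹ * a * (a * a) := by rw [h2]
        _ = b * a := by group
    · exact absurd (mul_left_cancel e) hne
  have hcc : c * c = 1 := by
    have h1 : b * (a * a) * b⁻¹ = a * a := by rw [hcz _ ha2 b, mul_inv_cancel_right]
    have h2 : b * (a * a) * b⁻¹ = c * c * (a * a) := by
      calc b * (a * a) * b⁻¹ = (b * a * b⁻¹) * (b * a * b⁻¹) := by group
        _ = c * (a * c) * a := by rw [hba]; group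
        _ = c * (c * a) * a := by rw [hcz c hcZ a]
        _ = _ := by group
    rw [h1] at h2
    exact mul_eq_right.1 h2.symm
  have hcinv : c⁻¹ = c := inv_eq_of_mul_eq_one_right hcc
  have hab' : a * b * a⁻¹ = c * b := by
    rw [← hcinv, hc]; group
  have rule : ∀ x : (P : Subgroup X), (x * a * x⁻¹ = a ∨ x * a * x⁻¹ = c * a) ∧
      (x * b * x⁻¹ = b ∨ x * b * x⁻¹ = c * b) := by
    intro x
    obtain ⟨w, hw, hx⟩ := coset x
    have hwc : ∀ y : (P : Subgroup X), w * y * w⁻¹ = y := fun y => by rw [← hcz w hw y, mul_inv_cancel_right]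
    rcases hx with rfl | rfl | rfl | rfl
    · exact ⟨Or.inl (hwc a), Or.inl (hwc b)⟩
    · refine ⟨Or.inl ?_, Or.inr ?_⟩
      · calc w * a * a * (w * a)⁻¹ = w * a * w⁻¹ := by group
          _ = a := hwc a
      · calc w * a * b * (w * a)⁻¹ = w * (a * b * a⁻¹) * w⁻¹ := by group
          _ = c * b := by rw [hab', hwc]
    · refine ⟨Or.inr ?_, Or.inl ?_⟩
      · calc w * b * a * (w * b)⁻¹ = w * (b * a * b⁻¹) * w⁻¹ := by group
          _ = c * a := by rw [hba, hwc]
      · calc w * b * b * (w * b)⁻¹ = w * b * w⁻¹ := by group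
          _ = b := hwc b
    · refine ⟨Or.inr ?_, Or.inr ?_⟩
      · calc w * (a * b) * a * (w * (a * b))⁻¹ = w * (a * (b * a * b⁻¹) * a⁻¹) * w⁻¹ := by group
          _ = a * (b * a * b⁻¹) * a⁻¹ := hwc _
          _ = a * c := by rw [hba]; group
          _ = c * a := hcz c hcZ a
      · calc w * (a * b) * b * (w * (a * b))⁻¹ = w * (a * b * a⁻¹) * w⁻¹ := by group
          _ = c * b := by rw [hab', hwc]
  have hder : ∀ x y : (P : Subgroup X), x * y * x⁻¹ = y ∨ x * y * x⁻¹ = c * y := by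
    intro x y
    obtain ⟨w, hw, hy⟩ := coset y
    have hwx : x * w * x⁻¹ = w := by rw [hcz w hw x, mul_inv_cancel_right]
    rcases hy with rfl | rfl | rfl | rfl
    · exact Or.inl hwx
    · rw [show x * (w * a) * x⁻¹ = (x * w * x⁻¹) * (x * a * x⁻¹) by group, hwx]
      rcases (rule x).1 with e | e <;> rw [e]
      · exact Or.inl rfl
      · exact Or.inr (by rw [← mul_assoc, hcz c hcZ w, mul_assoc])
    · rw [show x * (w * b) * x⁻¹ = (x * w * x⁻¹) * (x * b * x⁻¹) by group, hwx]
      rcases (rule x).2 with e | e <;> rw [e]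
      · exact Or.inl rfl
      · exact Or.inr (by rw [← mul_assoc, hcz c hcZ w, mul_assoc])
    · rw [show x * (w * (a * b)) * x⁻¹ = (x * w * x⁻¹) * ((x * a * x⁻¹) * (x * b * x⁻¹)) by group, hwx]
      rcases (rule x).1 with e | e <;> rcases (rule x).2 with e' | e' <;> rw [e, e']
      · exact Or.inl rfl
      · exact Or.inr (by rw [← mul_assoc a, hcz c hcZ a, ← mul_assoc w, ← mul_assoc w, hcz c hcZ w]; group)
      · exact Or.inr (by rw [← mul_assoc w, ← mul_assoc w, hcz c hcZ w]; group)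
      · refine Or.inl ?_
        rw [show c * a * (c * b) = c * (a * c) * b by group, hcz c hcZ a, ← mul_assoc c c, hcc, one_mul]
  refine ⟨(c : X), map_subtype_le _, ?_, ?_, ?_, mem_map_of_mem _ hcZ, ?_, ?_, ?_, ?_⟩
  · rintro _ ⟨w, hw, rfl⟩ x hx
    exact congrArg Subtype.val (hcz w hw ⟨x, hx⟩).symm
  · exact fun w hw h => ⟨⟨w, hw⟩, mem_center_iff.2 fun x => Subtype.ext (h x x.2).eq.symm, rfl⟩
  · rw [Subgroup.card_map_of_injective (P : Subgroup X).subtype_injective, ← hZ, mul_comm]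
    exact (Subgroup.card_mul_index _).symm
  · intro e
    have e' : c = 1 := Subtype.ext e
    rw [e', one_mul, mul_inv_eq_iff_eq_mul] at hba
    exact hab hba.symm
  · exact congrArg Subtype.val hcc
  · intro x hx y hy
    exact (hder ⟨x, hx⟩ ⟨y, hy⟩).imp (congrArg Subtype.val) (congrArg Subtype.val)
  · exact ⟨a, a.2, b, b.2, fun e => hab (Subtype.ext e.eq)⟩

namespace Quarter

variable {P : Sylow 2 X} {Z : Subgroup X} {z : X} (h : Quarter P Z z)
include h

theorem z_mem : z ∈ (P : Subgroup X) := h.le h.hz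

/-- The abelian subgroups of index two. -/
structure Side (P : Sylow 2 X) (Z A : Subgroup X) : Prop where
  le : A ≤ (P : Subgroup X)
  center_le : Z ≤ A
  card : Nat.card A = 2 * Nat.card Z
  comm : ∀ a ∈ A, ∀ b ∈ A, Commute a b

theorem side_cent {x : X} (hx : x ∈ (P : Subgroup X)) (hxZ : x ∉ Z) :
    Side P Z ((P : Subgroup X) ⊓ centralizer ({x} : Set X)) := by
  haveI : Fact (Nat.Prime 2) := ⟨Nat.prime_two⟩
  set A := (P : Subgroup X) ⊓ centralizer ({x} : Set X) with hA
  have hZA : Z ≤ A := le_inf h.le fun w hw => mem_centralizer_singleton_iff.2 (h.comm w hw x hx).eq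
  have hxA : x ∈ A := ⟨hx, mem_centralizer_singleton_iff.2 rfl⟩
  have hA4 : Nat.card A ≠ Nat.card (P : Subgroup X) := fun e => hxZ (h.cen x hx fun a ha => by
    have heq : A = (P : Subgroup X) := Subgroup.eq_of_le_of_card_ge inf_le_left e.ge
    have : a ∈ A := heq.symm ▸ ha
    exact (mem_centralizer_singleton_iff.1 this.2).symm)
  have hA1 : Nat.card A ≠ Nat.card Z := fun e => hxZ ((Subgroup.eq_of_le_of_card_ge hZA e.le).symm ▸ hxA)
  obtain ⟨k, hk⟩ := Subgroup.card_dvd_of_le hZA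
  have h4 : k ∣ 4 := by
    have h1 := Subgroup.card_dvd_of_le (inf_le_left : A ≤ (P : Subgroup X))
    rw [hk, h.card, mul_comm 4] at h1
    exact Nat.dvd_of_mul_dvd_mul_left Nat.card_pos h1
  have h2 : Nat.card A = 2 * Nat.card Z := by
    have hk4 := Nat.le_of_dvd (by norm_num) h4
    rw [h.card] at hA4
    interval_cases k <;> omega
  refine ⟨inf_le_left, hZA, h2, fun a ha b hb => ?_⟩
  have hi : (Z.subgroupOf A).index = 2 := by
    have h1 := (Z.subgroupOf A).card_mul_index
    rw [Nat.card_congr (subgroupOfEquivOfLe hZA).toEquiv, h2, mul_comm 2] at h1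
    exact Nat.eq_of_mul_eq_mul_left Nat.card_pos h1
  have hwx : ∀ c ∈ A, c ∉ Z → c * x ∈ Z := fun c hc hcZ => by
    have := (Subgroup.mul_mem_iff_of_index_two hi (a := (⟨c, hc⟩ : A)) (b := ⟨x, hxA⟩)).2
      (iff_of_false hcZ hxZ)
    exact this
  by_cases haZ : a ∈ Z
  · exact h.comm a haZ b hb.1
  by_cases hbZ : b ∈ Z
  · exact (h.comm b hbZ a ha.1).symm
  have cx : ∀ c ∈ A, Commute c x := fun c hc => mem_centralizer_singleton_iff.1 hc.2
  have e : Commute (a * x) b := h.comm _ (hwx a ha haZ) b hb.1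
  have := e.mul_left (cx b hb).symm.inv_left
  rwa [mul_inv_cancel_right] at this

theorem mem_side {x : X} (hx : x ∈ (P : Subgroup X)) :
    x ∈ (P : Subgroup X) ⊓ centralizer ({x} : Set X) := ⟨hx, mem_centralizer_singleton_iff.2 rfl⟩

variable {A : Subgroup X}

theorem side_eq (hA : Side P Z A) {x : X} (hx : x ∈ A) (hxZ : x ∉ Z) :
    (P : Subgroup X) ⊓ centralizer ({x} : Set X) = A := by
  refine (Subgroup.eq_of_le_of_card_ge (H := A) (le_inf hA.le fun a ha => mem_centralizer_singleton_iff.2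
    (hA.comm a ha x hx).eq) ?_).symm
  rw [(h.side_cent (hA.le hx) hxZ).card, hA.card]

theorem mem_of_commute (hA : Side P Z A) {x y : X} (hx : x ∈ A) (hxZ : x ∉ Z) (hy : y ∈ (P : Subgroup X))
    (hc : Commute y x) : y ∈ A :=
  h.side_eq hA hx hxZ ▸ ⟨hy, mem_centralizer_singleton_iff.2 hc.eq⟩

theorem mul_mem_center (hA : Side P Z A) {a b : X} (ha : a ∈ A) (hb : b ∈ A) (haZ : a ∉ Z) (hbZ : b ∉ Z) :
    a * b ∈ Z := by
  have hi : (Z.subgroupOf A).index = 2 := by
    have h1 := (Z.subgroupOf A).card_mul_index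
    rw [Nat.card_congr (subgroupOfEquivOfLe hA.center_le).toEquiv, hA.card, mul_comm 2] at h1
    exact Nat.eq_of_mul_eq_mul_left Nat.card_pos h1
  exact (Subgroup.mul_mem_iff_of_index_two hi (a := (⟨a, ha⟩ : A)) (b := ⟨b, hb⟩)).2 (iff_of_false haZ hbZ)

theorem exists_not_mem (hA : Side P Z A) : ∃ x ∈ A, x ∉ Z := by
  by_contra hh
  push Not at hh
  have := card_le_of_le (show A ≤ Z from hh)
  have := hA.card
  have := Nat.card_pos (α := Z)
  omega

theorem exists_outside (hA : Side P Z A) : ∃ p ∈ (P : Subgroup X), p ∉ A := by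
  by_contra hh
  push Not at hh
  have := card_le_of_le (show (P : Subgroup X) ≤ A from hh)
  have := hA.card
  have := h.card
  have := Nat.card_pos (α := Z)
  omega

theorem conj_of_outside (hA : Side P Z A) {p x : X} (hp : p ∈ (P : Subgroup X)) (hpA : p ∉ A) (hx : x ∈ A)
    (hxZ : x ∉ Z) : p * x * p⁻¹ = z * x :=
  (h.der p hp x (hA.le hx)).resolve_left fun e =>
    hpA (h.mem_of_commute hA hx hxZ hp (mul_inv_eq_iff_eq_mul.1 e))

theorem le_normalizer (hA : Side P Z A) : (P : Subgroup X) ≤ normalizer (A : Set X) := by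
  refine (normal_subgroupOf_iff_le_normalizer hA.le).1 (normal_of_index_eq_two ?_)
  have h1 := (A.subgroupOf (P : Subgroup X)).card_mul_index
  rw [Nat.card_congr (subgroupOfEquivOfLe hA.le).toEquiv, hA.card, h.card] at h1
  have := Nat.card_pos (α := Z)
  nlinarith

theorem fix_z {n : X} (hn : n ∈ normalizer ((P : Subgroup X) : Set X)) : n * z * n⁻¹ = z := by
  obtain ⟨a, ha, b, hb, hab⟩ := h.na
  have e : a * b * a⁻¹ = z * b := (h.der a ha b hb).resolve_left fun e => hab (mul_inv_eq_iff_eq_mul.1 e)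
  have ha' := (mem_normalizer_iff.1 hn a).1 ha
  have hb' := (mem_normalizer_iff.1 hn b).1 hb
  have e2 : n * a * n⁻¹ * (n * b * n⁻¹) * (n * a * n⁻¹)⁻¹ = n * z * n⁻¹ * (n * b * n⁻¹) := by
    calc n * a * n⁻¹ * (n * b * n⁻¹) * (n * a * n⁻¹)⁻¹ = n * (a * b * a⁻¹) * n⁻¹ := by group
      _ = _ := by rw [e]; group
  rcases h.der _ ha' _ hb' with e' | e'
  · rw [e2, mul_eq_right, conj_eq_one_iff] at e'
    exact absurd e' h.z1
  · rw [e2] at e'
    exact mul_right_cancel e'

theorem normalizer_center {n w : X} (hn : n ∈ normalizer ((P : Subgroup X) : Set X)) (hw : w ∈ Z) :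
    n * w * n⁻¹ ∈ Z := by
  refine h.cen _ ((mem_normalizer_iff.1 hn w).1 (h.le hw)) fun a ha => ?_
  have ha' : n⁻¹ * a * n ∈ (P : Subgroup X) := by
    have := (mem_normalizer_iff.1 (inv_mem hn) a).1 ha
    rwa [inv_inv] at this
  have := (h.comm w hw _ ha').map (MulAut.conj n).toMonoidHom
  simpa [mul_assoc] using this

theorem burnside {w g : X} (hw : w ∈ Z) (hg : g * w * g⁻¹ ∈ Z) :
    ∃ n ∈ normalizer ((P : Subgroup X) : Set X), n * w * n⁻¹ = g * w * g⁻¹ := by
  haveI : Fact (Nat.Prime 2) := ⟨Nat.prime_two⟩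
  exact Transfer.exists_normalizer_conj_elem P (fun a ha => (h.comm w hw a ha).symm)
    fun a ha => (h.comm _ hg a ha).symm

theorem z_central {g : X} (hg : g * z * g⁻¹ ∈ Z) : g * z * g⁻¹ = z := by
  obtain ⟨n, hn, e⟩ := h.burnside h.hz hg
  rw [← e, h.fix_z hn]

/-- A conjugate inside `P` of a side is a side, and the conjugation splits. -/
theorem exists_split (hA : Side P Z A) {g : X} (hg : ∀ a ∈ A, g * a * g⁻¹ ∈ (P : Subgroup X)) :
    ∃ n ∈ normalizer ((P : Subgroup X) : Set X), ∃ k ∈ normalizer (A : Set X), g = n * k := by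
  haveI : Fact (Nat.Prime 2) := ⟨Nat.prime_two⟩
  set A' := A.map (MulAut.conj g).toMonoidHom with hA'
  have hA'P : A' ≤ (P : Subgroup X) := by
    rintro _ ⟨a, ha, rfl⟩
    exact hg a ha
  have hc : Nat.card A' = 2 * Nat.card Z := by
    rw [hA', Subgroup.card_map_of_injective (MulAut.conj g).injective, hA.card]
  have hside : Side P Z A' := by
    obtain ⟨y, hy, hyZ⟩ : ∃ y ∈ A', y ∉ Z := by
      by_contra hh
      push Not at hh
      have := card_le_of_le (show A' ≤ Z from hh)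
      have := Nat.card_pos (α := Z)
      omega
    have hcomm : ∀ a ∈ A', ∀ b ∈ A', Commute a b := by
      rintro _ ⟨a, ha, rfl⟩ _ ⟨b, hb, rfl⟩
      exact (hA.comm a ha b hb).map (MulAut.conj g).toMonoidHom
    have h1 := h.side_cent (hA'P hy) hyZ
    have e : A' = (P : Subgroup X) ⊓ centralizer ({y} : Set X) := Subgroup.eq_of_le_of_card_ge
      (fun a ha => ⟨hA'P ha, mem_centralizer_singleton_iff.2 (hcomm a ha y hy).eq⟩) (by rw [h1.card, hc])
    exact e ▸ h1
  have hgP : ((g • P : Sylow 2 X) : Subgroup X) ≤ normalizer (A' : Set X) := by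
    rintro x hx
    rw [Sylow.coe_subgroup_smul, ← Grp.map_conj_eq_smul] at hx
    obtain ⟨p, hp, rfl⟩ := hx
    exact le_normalizer_map (MulAut.conj g).toMonoidHom (mem_map_of_mem _ (h.le_normalizer hA hp))
  obtain ⟨m, hm⟩ := MulAction.exists_smul_eq (normalizer (A' : Set X)) ((g • P : Sylow 2 X).subtype hgP)
    (P.subtype (h.le_normalizer hside))
  rw [Sylow.smul_subtype] at hm
  have hmP : (m : X) • g • P = P := Sylow.subtype_injective hm
  refine ⟨(m : X) * g, Sylow.smul_eq_iff_mem_normalizer.1 (by rw [mul_smul, hmP]), ((m : X) * g)⁻¹ * g,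
    mem_normalizer_iff.2 fun a => ?_, by group⟩
  have hm' := mem_normalizer_iff.1 (inv_mem m.2) (g * a * g⁻¹)
  have hmem : ∀ v, v ∈ A ↔ g * v * g⁻¹ ∈ A' := fun v =>
    (mem_map_iff_mem (MulAut.conj g).injective).symm
  rw [hmem a, hmem (((m : X) * g)⁻¹ * g * a * (((m : X) * g)⁻¹ * g)⁻¹), hm']
  exact iff_of_eq (congrArg (· ∈ A') (by group))

/-- The side of an element conjugate to a central one is moved onto it by its normalizer. -/
theorem exists_to_center {y w u : X} (hy : y ∈ (P : Subgroup X)) (hyZ : y ∉ Z) (hw : w ∈ Z)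
    (he : u * w * u⁻¹ = y) :
    ∃ n ∈ normalizer ((P : Subgroup X) : Set X), ∃ k ∈ normalizer
      (((P : Subgroup X) ⊓ centralizer ({y} : Set X) : Subgroup X) : Set X), k * y * k⁻¹ = n⁻¹ * w * n := by
  haveI : Fact (Nat.Prime 2) := ⟨Nat.prime_two⟩
  set A := (P : Subgroup X) ⊓ centralizer ({y} : Set X) with hAdef
  set C := centralizer ({w} : Set X) with hC
  have hPC : (P : Subgroup X) ≤ C := fun p hp => mem_centralizer_singleton_iff.2 (h.comm w hw p hp).eq.symm
  have hA2 : IsPGroup 2 (A.map (MulAut.conj u⁻¹).toMonoidHom) := (P.isPGroup'.to_le inf_le_left).map _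
  have hAC : A.map (MulAut.conj u⁻¹).toMonoidHom ≤ C := by
    rintro _ ⟨a, ha, rfl⟩
    have h1 : Commute a y := mem_centralizer_singleton_iff.1 ha.2
    have := h1.map (MulAut.conj u⁻¹).toMonoidHom
    refine mem_centralizer_singleton_iff.2 ?_
    rw [← he] at this
    simpa [mul_assoc] using this.eq
  obtain ⟨T, hT⟩ := ((hA2.comap_of_injective C.subtype C.subtype_injective) : IsPGroup 2
    ((A.map (MulAut.conj u⁻¹).toMonoidHom).comap C.subtype)).exists_le_sylow
  obtain ⟨c, hc⟩ := MulAction.exists_smul_eq C T (P.subtype hPC)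
  have hg : ∀ a ∈ A, ((c : X) * u⁻¹) * a * ((c : X) * u⁻¹)⁻¹ ∈ (P : Subgroup X) := by
    intro a ha
    have h1 : u⁻¹ * a * u⁻¹⁻¹ ∈ C := hAC ⟨a, ha, rfl⟩
    have h2 : (⟨_, h1⟩ : C) ∈ (T : Subgroup C) := hT ⟨a, ha, rfl⟩
    have h3 : c * ⟨_, h1⟩ * c⁻¹ ∈ ((c • T : Sylow 2 C) : Subgroup C) := by
      rw [Sylow.coe_subgroup_smul, ← Grp.map_conj_eq_smul]
      exact ⟨_, h2, rfl⟩
    rw [hc, Sylow.coe_subtype, mem_subgroupOf] at h3
    simpa [mul_assoc] using h3
  obtain ⟨n, hn, k, hk, e⟩ := h.exists_split (h.side_cent hy hyZ) hg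
  refine ⟨n, hn, k, hk, ?_⟩
  have hcw : (c : X) * w * (c : X)⁻¹ = w :=
    mul_inv_eq_iff_eq_mul.2 (mem_centralizer_singleton_iff.1 c.2)
  have e2 : (c : X) * u⁻¹ * y * ((c : X) * u⁻¹)⁻¹ = w := by
    calc (c : X) * u⁻¹ * y * ((c : X) * u⁻¹)⁻¹ = (c : X) * w * (c : X)⁻¹ := by rw [← he]; group
      _ = w := hcw
  rw [e] at e2
  rw [← e2]
  group

end Quarter

end Cfsg.Agent.Transfer.CentralFour
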