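import Cfsg.Agent.Lib.Transfer.CentralFour.Orbit
import Cfsg.Agent.Lib.Invol.Dihedral
import Cfsg.Agent.S0215

/-!
# A simple group with a non-abelian Sylow 2-subgroup with centre of index four: dihedral of order eight
-/

set_option autoImplicit false
set_option linter.style.haveILetI false
set_option linter.unusedSectionVars false

namespace Cfsg.Agent.Transfer.CentralFour

open Subgroup

universe u

variable {X : Type u} [Group X] [Finite X]

/-- The 2-part and the part of odd order. -/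
theorem two_odd (n : X) : ∃ u ∈ zpowers n, ∃ v ∈ zpowers n,
    (∃ i : ℕ, u ^ 2 ^ i = 1) ∧ Odd (orderOf v) ∧ n = u * v := by
  obtain ⟨a, b, ha, hb, ha1, hb1, e⟩ := Grp.exists_pow_decomp (g := n)
    (m := 2 ^ (orderOf n).factorization 2) (n := orderOf n / 2 ^ (orderOf n).factorization 2)
    ((Nat.coprime_ordCompl Nat.prime_two (orderOf_pos n).ne').pow_left _)
    (by rw [Nat.mul_div_cancel' (Nat.ordProj_dvd _ _), pow_orderOf_eq_one])
  exact ⟨a, ha, b, hb, ⟨_, ha1⟩, Odd.of_dvd_nat (Nat.odd_iff.mpr (Nat.two_dvd_ne_zero.mp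
    (Nat.not_dvd_ordCompl Nat.prime_two (orderOf_pos n).ne'))) (orderOf_dvd_of_pow_eq_one hb1), e⟩

theorem mem_zpowers_sq {v : X} (hv : Odd (orderOf v)) : v ∈ zpowers (v ^ 2) :=
  Grp.TwoCount.mem_zpowers_pow_of_coprime (Nat.coprime_two_right.2 hv)

/-- The conjugates of `z` in the Sylow subgroup. -/
def zSet (P : Sylow 2 X) (z : X) : Set X := {y | y ∈ (P : Subgroup X) ∧ ∃ u : X, u * z * u⁻¹ = y}

namespace Quarter

variable {P : Sylow 2 X} {Z : Subgroup X} {z : X} (h : Quarter P Z z)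
include h

theorem z_zSet : z ∈ zSet P z := ⟨h.z_mem, 1, by group⟩

theorem zSet_sq {y : X} (hy : y ∈ zSet P z) : y * y = 1 := by
  obtain ⟨-, u, rfl⟩ := hy
  calc u * z * u⁻¹ * (u * z * u⁻¹) = u * (z * z) * u⁻¹ := by group
    _ = 1 := by rw [h.zz]; group

theorem zSet_ne_one {y : X} (hy : y ∈ zSet P z) : y ≠ 1 := by
  obtain ⟨-, u, rfl⟩ := hy
  exact fun e => h.z1 (conj_eq_one_iff.1 e)

theorem zSet_not_center {y : X} (hy : y ∈ zSet P z) (hne : y ≠ z) : y ∉ Z := fun hZ => by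
  obtain ⟨-, u, rfl⟩ := hy
  exact hne (h.z_central hZ)

theorem zSet_side {y : X} (hy : y ∈ zSet P z) (hne : y ≠ z) :
    ∃ k ∈ normalizer (((P : Subgroup X) ⊓ centralizer ({y} : Set X) : Subgroup X) : Set X),
      k * z * k⁻¹ = y := by
  have hyZ := h.zSet_not_center hy hne
  obtain ⟨hyP, u, hu⟩ := hy
  obtain ⟨n, hn, k, hk, e⟩ := h.exists_to_center hyP hyZ h.hz hu
  have e2 : n⁻¹ * z * n = z := by
    have := h.fix_z (inv_mem hn)
    rwa [inv_inv] at this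
  rw [e2] at e
  refine ⟨k⁻¹, inv_mem hk, ?_⟩
  calc k⁻¹ * z * k⁻¹⁻¹ = k⁻¹ * (k * y * k⁻¹) * k := by rw [e, inv_inv]
    _ = y := by group

theorem zSet_in_side {A : Subgroup X} (hA : Side P Z A) {g : X} (hg : g ∈ normalizer (A : Set X))
    (hgz : g * z * g⁻¹ ≠ z) {y : X} (hy : y ∈ zSet P z) (hyA : y ∈ A) :
    y = z ∨ y = g * z * g⁻¹ ∨ y = z * (g * z * g⁻¹) := by
  by_cases hne : y = z
  · exact Or.inl hne
  obtain ⟨k, hk, e⟩ := h.zSet_side hy hne
  rw [h.side_eq hA hyA (h.zSet_not_center hy hne)] at hk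
  exact e ▸ h.orbit hA hg hk hgz

/-- Data of an element of `zSet` other than `z`: its side and a transport. -/
theorem zSet_moved {y : X} (hy : y ∈ zSet P z) (hne : y ≠ z) :
    ∃ (A : Subgroup X) (g : X), Side P Z A ∧ y ∈ A ∧ g ∈ normalizer (A : Set X) ∧ g * z * g⁻¹ = y ∧
      g * z * g⁻¹ ≠ z := by
  obtain ⟨k, hk, e⟩ := h.zSet_side hy hne
  exact ⟨_, k, h.side_cent hy.1 (h.zSet_not_center hy hne), h.mem_side hy.1, hk, e, e ▸ hne⟩

theorem conj_noncomm {y y' : X} (hy : y ∈ (P : Subgroup X)) (hy' : y' ∈ (P : Subgroup X)) (hc : ¬ Commute y y') :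
    y * y' * y⁻¹ = z * y' :=
  (h.der y hy y' hy').resolve_left fun e => hc (mul_inv_eq_iff_eq_mul.1 e)

/-- No three conjugates of `z` generate three sides. -/
theorem no_three {A : Subgroup X} (hA : Side P Z A) {g : X} (hg : g ∈ normalizer (A : Set X))
    (hgz : g * z * g⁻¹ ≠ z) {y₁ y₂ y₃ : X} (h₁ : y₁ ∈ zSet P z) (h₂ : y₂ ∈ zSet P z) (h₃ : y₃ ∈ zSet P z)
    (h12 : ¬ Commute y₁ y₂) (h13 : ¬ Commute y₁ y₃) (h23 : ¬ Commute y₂ y₃) : False := by
  have inv_eq : ∀ {y : X}, y ∈ zSet P z → y⁻¹ = y := fun hy => inv_eq_of_mul_eq_one_right (h.zSet_sq hy)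
  set x := y₃ * (y₁ * y₂)⁻¹ with hx
  have hxP : x ∈ (P : Subgroup X) := mul_mem h₃.1 (inv_mem (mul_mem h₁.1 h₂.1))
  have hz3 : y₃ * z * y₃⁻¹ = z := mul_inv_eq_iff_eq_mul.2 (h.comm z h.hz _ h₃.1).eq.symm
  have c1 : x * y₁ * x⁻¹ = y₁ := by
    calc x * y₁ * x⁻¹ = y₃ * (y₂⁻¹ * y₁ * y₂⁻¹⁻¹) * y₃⁻¹ := by rw [hx]; group
      _ = y₃ * (z * y₁) * y₃⁻¹ := by
        rw [inv_eq h₂, h.conj_noncomm h₂.1 h₁.1 fun c => h12 c.symm]
      _ = y₃ * z * y₃⁻¹ * (y₃ * y₁ * y₃⁻¹) := by group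
      _ = y₁ := by rw [hz3, h.conj_noncomm h₃.1 h₁.1 fun c => h13 c.symm, ← mul_assoc, h.zz, one_mul]
  have c2 : x * y₂ * x⁻¹ = y₂ := by
    calc x * y₂ * x⁻¹ = y₃ * (y₂⁻¹ * (y₁⁻¹ * y₂ * y₁⁻¹⁻¹) * y₂) * y₃⁻¹ := by rw [hx]; group
      _ = y₃ * (y₂⁻¹ * (z * y₂) * y₂) * y₃⁻¹ := by rw [inv_eq h₁, h.conj_noncomm h₁.1 h₂.1 h12]
      _ = y₃ * (y₂⁻¹ * z * y₂⁻¹⁻¹ * y₂) * y₃⁻¹ := by group
      _ = y₃ * (z * y₂) * y₃⁻¹ := by
        rw [mul_inv_eq_iff_eq_mul.2 (h.comm z h.hz _ (inv_mem h₂.1)).eq.symm]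
      _ = y₃ * z * y₃⁻¹ * (y₃ * y₂ * y₃⁻¹) := by group
      _ = y₂ := by rw [hz3, h.conj_noncomm h₃.1 h₂.1 fun c => h23 c.symm, ← mul_assoc, h.zz, one_mul]
  have hxZ : x ∈ Z := by
    by_contra hn
    exact h12 ((h.side_cent hxP hn).comm y₁ ⟨h₁.1, mem_centralizer_singleton_iff.2
      (mul_inv_eq_iff_eq_mul.1 c1).symm⟩ y₂ ⟨h₂.1, mem_centralizer_singleton_iff.2
      (mul_inv_eq_iff_eq_mul.1 c2).symm⟩)
  have hsq : (y₁ * y₂) * (y₁ * y₂) = z := by
    calc (y₁ * y₂) * (y₁ * y₂) = y₁ * (y₂ * y₁ * y₂⁻¹) * (y₂ * y₂) := by group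
      _ = y₁ * (z * y₁) := by
        rw [h.conj_noncomm h₂.1 h₁.1 fun c => h12 c.symm, h.zSet_sq h₂, mul_one]
      _ = z * (y₁ * y₁) := by rw [← mul_assoc, ← (h.comm z h.hz _ h₁.1).eq, mul_assoc]
      _ = z := by rw [h.zSet_sq h₁, mul_one]
  refine h.not_square hA hg hgz hxZ ?_
  have e3 : (x * (y₁ * y₂)) * (x * (y₁ * y₂)) = 1 := by
    rw [show x * (y₁ * y₂) = y₃ by rw [hx, inv_mul_cancel_right]]; exact h.zSet_sq h₃
  rw [mul_assoc, ← mul_assoc (y₁ * y₂) x, ← (h.comm x hxZ _ (mul_mem h₁.1 h₂.1)).eq, mul_assoc x,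
    hsq, ← mul_assoc] at e3
  exact (eq_inv_of_mul_eq_one_left e3).trans (inv_eq_of_mul_eq_one_right h.zz)

theorem two_part_mem {n u : X} (hn : n ∈ normalizer ((P : Subgroup X) : Set X)) (hu : u ∈ zpowers n)
    (h2 : ∃ i : ℕ, u ^ 2 ^ i = 1) : u ∈ (P : Subgroup X) := by
  haveI : Fact (Nat.Prime 2) := ⟨Nat.prime_two⟩
  have huN : u ∈ normalizer ((P : Subgroup X) : Set X) := (zpowers_le.2 hn) hu
  obtain ⟨i, hi⟩ := h2
  obtain ⟨j, -, hj⟩ := (Nat.dvd_prime_pow Nat.prime_two).1 (orderOf_dvd_of_pow_eq_one hi)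
  have hp : IsPGroup 2 (zpowers u) := IsPGroup.of_card (n := j) (by rw [Nat.card_zpowers, hj])
  exact (P.3 (hp.to_sup_of_normal_right' P.isPGroup' (zpowers_le.2 huN)) le_sup_right).le
    (mem_sup_left (mem_zpowers u))

/-- The Sylow normalizer fixes every moved side. -/
theorem normalizer_side {A : Subgroup X} (hA : Side P Z A) {g : X} (hg : g ∈ normalizer (A : Set X))
    (hgz : g * z * g⁻¹ ≠ z) {n : X} (hn : n ∈ normalizer ((P : Subgroup X) : Set X)) :
    n ∈ normalizer (A : Set X) := by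
  set a := g * z * g⁻¹ with ha
  have haA : a ∈ A := h.norm_mem hg (hA.center_le h.hz)
  have haY : a ∈ zSet P z := ⟨hA.le haA, g, rfl⟩
  have haZ : a ∉ Z := h.zSet_not_center haY hgz
  have hmove : ∀ w ∈ normalizer ((P : Subgroup X) : Set X), w * a * w⁻¹ ∈ zSet P z ∧ w * a * w⁻¹ ≠ z :=
    fun w hw => ⟨⟨(mem_normalizer_iff.1 hw a).1 haY.1, w * g, by rw [ha]; group⟩, fun e => hgz (by
      calc a = w⁻¹ * (w * a * w⁻¹) * w⁻¹⁻¹ := by group
        _ = z := by rw [e, h.fix_z (inv_mem hw)])⟩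
  have fixA : ∀ w ∈ normalizer ((P : Subgroup X) : Set X), w * a * w⁻¹ ∈ A → w ∈ normalizer (A : Set X) := by
    intro w hw hwA
    have hbZ : w * a * w⁻¹ ∉ Z := h.zSet_not_center (hmove w hw).1 (hmove w hw).2
    refine mem_normalizer_iff.2 fun x => ⟨fun hx => ?_, fun hx => ?_⟩
    · refine h.mem_of_commute hA hwA hbZ ((mem_normalizer_iff.1 hw x).1 (hA.le hx)) ?_
      exact (hA.comm x hx a haA).map (MulAut.conj w).toMonoidHom
    · refine h.mem_of_commute hA haA haZ ((mem_normalizer_iff.1 hw x).2 (hA.le hx)) ?_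
      have := (hA.comm _ hx _ hwA).map (MulAut.conj w⁻¹).toMonoidHom
      simpa [mul_assoc] using this
  obtain ⟨u, hu, v, hv, hu2, hvo, rfl⟩ := two_odd n
  have huP := h.two_part_mem hn hu hu2
  refine mul_mem (h.le_normalizer hA huP) ?_
  have hvN : v ∈ normalizer ((P : Subgroup X) : Set X) := (zpowers_le.2 hn) hv
  by_contra hvA
  have hv2A : v ^ 2 ∉ normalizer (A : Set X) := fun e => hvA ((zpowers_le.2 e) (mem_zpowers_sq hvo))
  have n1 : v * a * v⁻¹ ∉ A := fun e => hvA (fixA v hvN e)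
  have n2 : v ^ 2 * a * (v ^ 2)⁻¹ ∉ A := fun e => hv2A (fixA _ (pow_mem hvN 2) e)
  have nc : ∀ y ∈ zSet P z, y ∉ A → ¬ Commute a y := fun y hy hyA c =>
    hyA (h.mem_of_commute hA haA haZ hy.1 c.symm)
  refine h.no_three hA hg hgz haY (hmove v hvN).1 (hmove _ (pow_mem hvN 2)).1
    (nc _ (hmove v hvN).1 n1) (nc _ (hmove _ (pow_mem hvN 2)).1 n2) fun c => ?_
  refine nc _ (hmove v hvN).1 n1 ?_
  have := c.map (MulAut.conj v⁻¹).toMonoidHom
  rwa [show (MulAut.conj v⁻¹).toMonoidHom (v * a * v⁻¹) = a by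
      show v⁻¹ * (v * a * v⁻¹) * v⁻¹⁻¹ = a; group,
    show (MulAut.conj v⁻¹).toMonoidHom (v ^ 2 * a * (v ^ 2)⁻¹) = v * a * v⁻¹ by
      show v⁻¹ * (v ^ 2 * a * (v ^ 2)⁻¹) * v⁻¹⁻¹ = v * a * v⁻¹; rw [sq]; group] at this

/-- The elements of the centre fixed in every transport. -/
def core (P : Sylow 2 X) (Z : Subgroup X) (z : X) : Subgroup X where
  carrier := {w | w ∈ Z ∧ ∀ A : Subgroup X, Side P Z A → ∀ g ∈ normalizer (A : Set X),
    g * z * g⁻¹ ≠ z → g⁻¹ * w * g ∈ Z}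
  one_mem' := ⟨one_mem Z, fun A _ g _ _ => by simp⟩
  mul_mem' := fun {v w} hv hw => ⟨mul_mem hv.1 hw.1, fun A hA g hg hgz => by
    rw [show g⁻¹ * (v * w) * g = g⁻¹ * v * g * (g⁻¹ * w * g) by group]
    exact mul_mem (hv.2 A hA g hg hgz) (hw.2 A hA g hg hgz)⟩
  inv_mem' := fun {v} hv => ⟨inv_mem hv.1, fun A hA g hg hgz => by
    rw [show g⁻¹ * v⁻¹ * g = (g⁻¹ * v * g)⁻¹ by group]
    exact inv_mem (hv.2 A hA g hg hgz)⟩

/-- Some conjugate of `z` in the Sylow subgroup differs from it. -/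
theorem exists_moved [IsSimpleGroup X] (hX : ¬ IsMulCommutative X) (hO : Cfsg.pPrimeCore 2 X = ⊥) :
    ∃ y ∈ zSet P z, y ≠ z := by
  by_contra hh
  push Not at hh
  obtain ⟨N, hN, hNo, hcz⟩ := Cfsg.Agent.S0215.result P z (orderOf_eq_prime (by rw [pow_two, h.zz]) h.z1)
    h.z_mem fun g hg => hh _ ⟨hg, g, rfl⟩
  have hNb : N = ⊥ := le_bot_iff.1 (hO ▸ Grp.le_pPrimeCore hN (Nat.coprime_two_right.2 hNo))
  refine h.z1 ?_
  have : z ∈ center X := mem_center_iff.2 fun g => by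
    have e := hcz g
    rw [hNb, mem_bot] at e
    calc g * z = z * g * z⁻¹ * g⁻¹ * (g * z) := by rw [e, one_mul]
      _ = z * g := by group
  rwa [center_eq_bot hX, mem_bot] at this

theorem core_eq_bot [IsSimpleGroup X] (hX : ¬ IsMulCommutative X) (hO : Cfsg.pPrimeCore 2 X = ⊥) :
    core P Z z = ⊥ := by
  haveI : Fact (Nat.Prime 2) := ⟨Nat.prime_two⟩
  refine eq_bot_of_pair hX hO P (core P Z z) ⟨fun w hw => h.le hw.1, ?_⟩ (zSet P z) h.z_zSet
    (fun y hy => orderOf_eq_prime (by rw [pow_two, h.zSet_sq hy]) (h.zSet_ne_one hy)) (fun y hy => hy.1)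
    (fun y hy g hg => ?_) (fun y hy y' hy' hne hc => ?_) (fun y hy hyR => ?_)
    (fun r hr y hy => h.comm r hr.1 y hy.1)
  · intro r hr g hg
    have inv : ∀ n ∈ normalizer ((P : Subgroup X) : Set X), n * r * n⁻¹ ∈ core P Z z := by
      intro n hn
      refine ⟨h.normalizer_center hn hr.1, fun A hA k hk hkz => ?_⟩
      have hnA := h.normalizer_side hA hk hkz hn
      rw [show k⁻¹ * (n * r * n⁻¹) * k = (n⁻¹ * k)⁻¹ * r * (n⁻¹ * k) by group]
      refine hr.2 A hA _ (mul_mem (inv_mem hnA) hk) fun e => hkz ?_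
      calc k * z * k⁻¹ = n * (n⁻¹ * k * z * (n⁻¹ * k)⁻¹) * n⁻¹ := by group
        _ = z := by rw [e, h.fix_z hn]
    by_cases hyZ : g * r * g⁻¹ ∈ Z
    · obtain ⟨n, hn, e⟩ := h.burnside hr.1 hyZ
      exact e ▸ inv n hn
    obtain ⟨n, hn, k, hk, e⟩ := h.exists_to_center hg hyZ hr.1 rfl
    have hA := h.side_cent hg hyZ
    have hr' : n⁻¹ * r * n ∈ core P Z z := by
      have := inv n⁻¹ (inv_mem hn)
      rwa [inv_inv] at this
    refine absurd ?_ hyZ
    have e2 : g * r * g⁻¹ = k⁻¹ * (n⁻¹ * r * n) * k := by rw [← e]; group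
    rw [e2]
    by_cases hkz : k * z * k⁻¹ = z
    · have := h.same_centre hA (inv_mem hk) (by
        calc k⁻¹ * z * k⁻¹⁻¹ = k⁻¹ * (k * z * k⁻¹) * k := by rw [hkz]; group
          _ = z := by group) hr'.1
      rwa [inv_inv] at this
    · exact hr'.2 _ hA k hk hkz
  · obtain ⟨-, u, rfl⟩ := hy
    exact ⟨hg, g * u, by group⟩
  · have key : ∀ v ∈ zSet P z, v ≠ z → z * v ∈ zSet P z := fun v hv hvz => by
      obtain ⟨A, g, hA, hvA, hg, hgv, -⟩ := h.zSet_moved hv hvz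
      obtain ⟨p, hp, hpA⟩ := h.exists_outside hA
      rw [← h.conj_of_outside hA hp hpA hvA (h.zSet_not_center hv hvz)]
      exact ⟨(P : Subgroup X).mul_mem ((P : Subgroup X).mul_mem hp hv.1) (inv_mem hp), p * g, by
        rw [← hgv]; group⟩
    by_cases hyz : y = z
    · rw [hyz]; exact key y' hy' fun e => hne (hyz.trans e.symm)
    by_cases hy'z : y' = z
    · rw [hc.eq, hy'z]; exact key y hy hyz
    obtain ⟨A, g, hA, hyA, hg, hgy, hgz⟩ := h.zSet_moved hy hyz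
    have hy'A : y' ∈ A := h.mem_of_commute hA hyA (h.zSet_not_center hy hyz) hy'.1 hc.symm
    rcases h.zSet_in_side hA hg hgz hy' hy'A with e | e | e
    · exact absurd e hy'z
    · exact absurd (e.trans hgy).symm hne
    · rw [hgy] at e
      rw [e, ← mul_assoc, ← (h.comm z h.hz y hy.1).eq, mul_assoc, h.zSet_sq hy, mul_one]
      exact h.z_zSet
  · obtain ⟨v, hv, hvz⟩ := h.exists_moved hX hO
    obtain ⟨A, g, hA, -, hg, -, hgz⟩ := h.zSet_moved hv hvz
    obtain ⟨-, u, rfl⟩ := hy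
    rw [h.z_central hyR.1] at hyR
    exact h.axes_not_z hgz (hyR.2 A hA g hg hgz)

theorem fix_center [IsSimpleGroup X] (hX : ¬ IsMulCommutative X) (hO : Cfsg.pPrimeCore 2 X = ⊥)
    {n w : X} (hn : n ∈ normalizer ((P : Subgroup X) : Set X)) (hw : w ∈ Z) : n * w * n⁻¹ = w := by
  refine mul_inv_eq_one.1 (mem_bot.1 (h.core_eq_bot hX hO ▸ ?_ : n * w * n⁻¹ * w⁻¹ ∈ (⊥ : Subgroup X)))
  refine ⟨mul_mem (h.normalizer_center hn hw) (inv_mem hw), fun A hA g hg hgz => ?_⟩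
  have hnA := h.normalizer_side hA hg hgz hn
  have hz : ∀ c ∈ Z, g⁻¹ * c * g ∈ Z → g⁻¹ * (n * c * n⁻¹ * c⁻¹) * g ∈ Z := by
    intro c hc hgc
    rw [show g⁻¹ * (n * c * n⁻¹ * c⁻¹) * g = (n⁻¹ * g)⁻¹ * c * (n⁻¹ * g) * (g⁻¹ * c * g)⁻¹ by group]
    exact mul_mem (h.axes hA hg (mul_mem (inv_mem hnA) hg) hgz hc hgc) (inv_mem hgc)
  rcases h.axes_split hA hg hgz hw with e | e
  · exact hz w hw e
  · have e2 : n * w * n⁻¹ * w⁻¹ = n * (z * w) * n⁻¹ * (z * w)⁻¹ := by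
      rw [show n * (z * w) * n⁻¹ * (z * w)⁻¹ = n * z * n⁻¹ * (n * w * n⁻¹ * w⁻¹) * z⁻¹ by group, h.fix_z hn,
        (h.comm z h.hz _ (h.le (mul_mem (h.normalizer_center hn hw) (inv_mem hw)))).eq, mul_inv_cancel_right]
    rw [e2]
    exact hz _ (mul_mem h.hz hw) e

/-- The Sylow normalizer acts on the Sylow subgroup as inner automorphisms. -/
theorem normalizer_inner [IsSimpleGroup X] (hX : ¬ IsMulCommutative X) (hO : Cfsg.pPrimeCore 2 X = ⊥)
    {n x : X} (hn : n ∈ normalizer ((P : Subgroup X) : Set X)) (hx : x ∈ (P : Subgroup X)) :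
    n * x * n⁻¹ = x ∨ n * x * n⁻¹ = z * x := by
  obtain ⟨y, hy, hyz⟩ := h.exists_moved hX hO
  obtain ⟨A, g, hA, -, hg, -, hgz⟩ := h.zSet_moved hy hyz
  set a := g * z * g⁻¹ with ha
  have haA : a ∈ A := h.norm_mem hg (hA.center_le h.hz)
  have haY : a ∈ zSet P z := ⟨hA.le haA, g, rfl⟩
  have haZ : a ∉ Z := h.zSet_not_center haY hgz
  obtain ⟨u, hu, v, hv, hu2, hvo, rfl⟩ := two_odd n
  have huP := h.two_part_mem hn hu hu2
  have hvN : v ∈ normalizer ((P : Subgroup X) : Set X) := (zpowers_le.2 hn) hv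
  have hvA := h.normalizer_side hA hg hgz hvN
  have hva : Commute v a := by
    have h1 : v * a * v⁻¹ = a ∨ v * a * v⁻¹ = z * a := by
      refine (h.zSet_in_side hA hg hgz ⟨(mem_normalizer_iff.1 hvN a).1 haY.1, v * g, by rw [ha]; group⟩
        (h.norm_mem hvA haA)).resolve_left fun e => hgz ?_
      calc a = v⁻¹ * (v * a * v⁻¹) * v⁻¹⁻¹ := by group
        _ = z := by rw [e, h.fix_z (inv_mem hvN)]
    rcases h1 with e | e
    · exact mul_inv_eq_iff_eq_mul.1 e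
    · have e2 : v ^ 2 * a * (v ^ 2)⁻¹ = a := by
        calc v ^ 2 * a * (v ^ 2)⁻¹ = v * (v * a * v⁻¹) * v⁻¹ := by rw [sq]; group
          _ = v * (z * a) * v⁻¹ := by rw [e]
          _ = v * z * v⁻¹ * (v * a * v⁻¹) := by group
          _ = a := by rw [h.fix_z hvN, e, ← mul_assoc, h.zz, one_mul]
      have c2 : Commute (v ^ 2) a := mul_inv_eq_iff_eq_mul.1 e2
      obtain ⟨i, hi⟩ := mem_zpowers_iff.1 (mem_zpowers_sq hvo)
      rw [← hi]
      exact c2.zpow_left i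
  have hvZ : ∀ w ∈ Z, Commute v w := fun w hw => mul_inv_eq_iff_eq_mul.1 (h.fix_center hX hO hvN hw)
  have hvAc : ∀ b ∈ A, Commute v b := fun b hb => by
    by_cases hbZ : b ∈ Z
    · exact hvZ b hbZ
    have := (hvZ _ (h.mul_mem_center hA hb haA hbZ haZ)).mul_right hva.inv_right
    rwa [mul_inv_cancel_right] at this
  have hi : (A.subgroupOf (P : Subgroup X)).index = 2 := by
    have h1 := (A.subgroupOf (P : Subgroup X)).card_mul_index
    rw [Nat.card_congr (subgroupOfEquivOfLe hA.le).toEquiv, hA.card, h.card] at h1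
    have := Nat.card_pos (α := Z)
    nlinarith
  have hvx : Commute v x := by
    by_cases hxA : x ∈ A
    · exact hvAc x hxA
    have hd : x⁻¹ * (v * x * v⁻¹) ∈ A := by
      have hxA' : v * x * v⁻¹ ∉ A := fun e => hxA ((mem_normalizer_iff.1 hvA x).2 e)
      exact (Subgroup.mul_mem_iff_of_index_two hi (a := (⟨x, hx⟩ : (P : Subgroup X))⁻¹)
        (b := ⟨_, (mem_normalizer_iff.1 hvN x).1 hx⟩)).2 (iff_of_false (fun e => hxA (inv_inv x ▸ inv_mem e)) hxA')
    obtain ⟨i, hi⟩ := P.isPGroup'.to_le hA.le ⟨_, hd⟩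
    have := HalfClasses.eq_one_of_fixed_diff hvo (hvAc _ hd) ⟨i, congrArg Subtype.val hi⟩
    exact mul_inv_eq_iff_eq_mul.1 (inv_mul_eq_one.1 this).symm
  rw [show u * v * x * (u * v)⁻¹ = u * (v * x * v⁻¹) * u⁻¹ by group, mul_inv_eq_iff_eq_mul.2 hvx.eq]
  exact h.der u huP x hx

/-- Inside a side, transports differ by products of conjugates of `z`. -/
theorem side_diff [IsSimpleGroup X] (hX : ¬ IsMulCommutative X) (hO : Cfsg.pPrimeCore 2 X = ⊥)
    {A : Subgroup X} (hA : Side P Z A) {k x : X} (hk : k ∈ normalizer (A : Set X)) (hx : x ∈ A) :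
    x⁻¹ * (k * x * k⁻¹) ∈ closure (zSet P z) := by
  have hzD : z ∈ closure (zSet P z) := subset_closure h.z_zSet
  by_cases hm : ∃ g ∈ normalizer (A : Set X), g * z * g⁻¹ ≠ z
  · obtain ⟨g, hg, hgz⟩ := hm
    set a := g * z * g⁻¹ with ha
    have haA : a ∈ A := h.norm_mem hg (hA.center_le h.hz)
    have haZ : a ∉ Z := h.zSet_not_center ⟨hA.le haA, g, rfl⟩ hgz
    have hzA := hA.center_le h.hz
    have hkY : ∀ c : X, c ∈ A → (∃ u, u * z * u⁻¹ = c) → k * c * k⁻¹ ∈ closure (zSet P z) :=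
      fun c hc ⟨u, hu⟩ => subset_closure ⟨hA.le (h.norm_mem hk hc), k * u, by rw [← hu]; group⟩
    have hfix : ∀ c ∈ Z, g⁻¹ * c * g ∈ Z → k * c * k⁻¹ = c := by
      intro c hc hgc
      have h1 := h.axes hA hg (inv_mem hk) hgz hc hgc
      rw [inv_inv] at h1
      obtain ⟨n, hn, e⟩ := h.burnside hc h1
      rw [← e, h.fix_center hX hO hn hc]
    have hw : ∀ w ∈ Z, w⁻¹ * (k * w * k⁻¹) ∈ closure (zSet P z) := by
      intro w hw
      rcases h.axes_split hA hg hgz hw with e | e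
      · rw [hfix w hw e, inv_mul_cancel]; exact one_mem _
      · have e2 := hfix _ (mul_mem h.hz hw) e
        have e3 : k * w * k⁻¹ = (k * z * k⁻¹)⁻¹ * (z * w) := by
          calc k * w * k⁻¹ = (k * z * k⁻¹)⁻¹ * (k * (z * w) * k⁻¹) := by group
            _ = _ := by rw [e2]
        rw [e3, show w⁻¹ * ((k * z * k⁻¹)⁻¹ * (z * w)) = w⁻¹ * ((k * z * k⁻¹)⁻¹ * z) * w by group,
          mul_assoc w⁻¹, ← (hA.comm w (hA.center_le hw) _
            (mul_mem (inv_mem (h.norm_mem hk hzA)) hzA)).eq, inv_mul_cancel_left]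
        exact mul_mem (inv_mem (hkY z hzA ⟨1, by group⟩)) hzD
    by_cases hxZ : x ∈ Z
    · exact hw x hxZ
    have hxa : x * a ∈ Z := h.mul_mem_center hA hx haA hxZ haZ
    have hdA : (x * a)⁻¹ * (k * (x * a) * k⁻¹) ∈ A :=
      mul_mem (inv_mem (mul_mem hx haA)) (h.norm_mem hk (mul_mem hx haA))
    rw [show x⁻¹ * (k * x * k⁻¹) = a * ((x * a)⁻¹ * (k * (x * a) * k⁻¹)) * (k * a * k⁻¹)⁻¹ by group]
    exact mul_mem (mul_mem (subset_closure ⟨hA.le haA, g, rfl⟩) (hw _ hxa))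
      (inv_mem (hkY a haA ⟨g, rfl⟩))
  push Not at hm
  have hZfix : ∀ v ∈ normalizer (A : Set X), ∀ w ∈ Z, v * w * v⁻¹ = w := by
    intro v hv w hw
    obtain ⟨n, hn, e⟩ := h.burnside hw (h.same_centre hA hv (hm v hv) hw)
    rw [← e, h.fix_center hX hO hn hw]
  obtain ⟨u, hu, v, hv, ⟨i, hi⟩, hvo, rfl⟩ := two_odd k
  have huA : u ∈ normalizer (A : Set X) := (zpowers_le.2 hk) hu
  have hvA : v ∈ normalizer (A : Set X) := (zpowers_le.2 hk) hv
  have hvx : v * x * v⁻¹ = x := by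
    by_cases hxZ : x ∈ Z
    · exact hZfix v hvA x hxZ
    have hnZ : v * x * v⁻¹ ∉ Z := fun e => hxZ (by
      have := hZfix v⁻¹ (inv_mem hvA) _ e
      rw [show v⁻¹ * (v * x * v⁻¹) * v⁻¹⁻¹ = x by group] at this
      exact this ▸ e)
    have hd : x⁻¹ * (v * x * v⁻¹) ∈ Z := h.mul_mem_center hA (inv_mem hx) (h.norm_mem hvA hx)
      (fun e => hxZ (inv_inv x ▸ inv_mem e)) hnZ
    obtain ⟨j, hj⟩ := P.isPGroup'.to_le h.le ⟨_, hd⟩
    exact (inv_mul_eq_one.1 (HalfClasses.eq_one_of_fixed_diff hvo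
      (mul_inv_eq_iff_eq_mul.1 (hZfix v hvA _ hd)) ⟨j, congrArg Subtype.val hj⟩)).symm
  rw [show u * v * x * (u * v)⁻¹ = u * (v * x * v⁻¹) * u⁻¹ by group, hvx]
  haveI : Fact (Nat.Prime 2) := ⟨Nat.prime_two⟩
  obtain ⟨j, -, hj⟩ := (Nat.dvd_prime_pow Nat.prime_two).1 (orderOf_dvd_of_pow_eq_one
    (show (⟨u, huA⟩ : normalizer (A : Set X)) ^ 2 ^ i = 1 from Subtype.ext hi))
  have hp : IsPGroup 2 (zpowers (⟨u, huA⟩ : normalizer (A : Set X))) :=
    IsPGroup.of_card (n := j) (by rw [Nat.card_zpowers, hj])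
  obtain ⟨T, hT⟩ := hp.exists_le_sylow
  obtain ⟨m, hm'⟩ := MulAction.exists_smul_eq (normalizer (A : Set X)) T (P.subtype (h.le_normalizer hA))
  have hq : (m : X) * u * (m : X)⁻¹ ∈ (P : Subgroup X) := by
    have h3 : m * ⟨u, huA⟩ * m⁻¹ ∈ ((m • T : Sylow 2 (normalizer (A : Set X))) :
        Subgroup (normalizer (A : Set X))) := by
      rw [Sylow.coe_subgroup_smul, ← Grp.map_conj_eq_smul]
      exact ⟨_, hT (mem_zpowers _), rfl⟩
    rw [hm', Sylow.coe_subtype, mem_subgroupOf] at h3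
    exact h3
  have hmx : (m : X) * x * (m : X)⁻¹ ∈ A := h.norm_mem m.2 hx
  have e : u * x * u⁻¹ = (m : X)⁻¹ *
      ((m : X) * u * (m : X)⁻¹ * ((m : X) * x * (m : X)⁻¹) * ((m : X) * u * (m : X)⁻¹)⁻¹) * m := by group
  rcases h.der _ hq _ (hA.le hmx) with e' | e'
  · rw [e, e', show x⁻¹ * ((m : X)⁻¹ * ((m : X) * x * (m : X)⁻¹) * m) = 1 by group]
    exact one_mem _
  · have ez : (m : X)⁻¹ * z * m = z := by
      have := hm _ (inv_mem m.2)
      rwa [inv_inv] at this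
    rw [e, e', show (m : X)⁻¹ * (z * ((m : X) * x * (m : X)⁻¹)) * m = (m : X)⁻¹ * z * m * x by group, ez,
      (h.comm z h.hz x (hA.le hx)).eq, inv_mul_cancel_left]
    exact hzD

/-- The derived group meets the Sylow subgroup in products of conjugates of `z`. -/
theorem commutator_le [IsSimpleGroup X] (hX : ¬ IsMulCommutative X) (hO : Cfsg.pPrimeCore 2 X = ⊥) :
    commutator X ⊓ (P : Subgroup X) ≤ closure (zSet P z) := by
  haveI : Fact (Nat.Prime 2) := ⟨Nat.prime_two⟩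
  refine Transfer.commutator_inf_sylow_le P fun x hx g hg => ?_
  have central : ∀ w ∈ Z, ∀ y ∈ (P : Subgroup X), ∀ u : X, u * w * u⁻¹ = y →
      w⁻¹ * y ∈ closure (zSet P z) := by
    intro w hw y hy u hu
    by_cases hyZ : y ∈ Z
    · obtain ⟨n, hn, e⟩ := h.burnside hw (hu ▸ hyZ)
      rw [h.fix_center hX hO hn hw, hu] at e
      rw [← e, inv_mul_cancel]; exact one_mem _
    obtain ⟨n, hn, k, hk, e⟩ := h.exists_to_center hy hyZ hw hu
    have hA := h.side_cent hy hyZ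
    have e2 : n⁻¹ * w * n = w := by
      have := h.fix_center hX hO (inv_mem hn) hw
      rwa [inv_inv] at this
    rw [e2] at e
    have h1 := h.side_diff hX hO hA (inv_mem hk) (hA.center_le hw)
    rwa [show k⁻¹ * w * k⁻¹⁻¹ = y by rw [← e]; group] at h1
  set y := g * x * g⁻¹ with hy
  by_cases hxc : ∃ u : X, u * x * u⁻¹ ∈ Z
  · obtain ⟨u, hu⟩ := hxc
    have d1 := central _ hu x hx u⁻¹ (by group)
    have d2 := central _ hu y hg (g * u⁻¹) (by rw [hy]; group)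
    rw [show x⁻¹ * y = ((u * x * u⁻¹)⁻¹ * x)⁻¹ * ((u * x * u⁻¹)⁻¹ * y) by group]
    exact mul_mem (inv_mem d1) d2
  push Not at hxc
  have hxZ : x ∉ Z := fun e => hxc 1 (by simpa using e)
  have hyZ : y ∉ Z := fun e => hxc g (hy ▸ e)
  have hA := h.side_cent hx hxZ
  have hA' := h.side_cent hg hyZ
  set A := (P : Subgroup X) ⊓ centralizer ({x} : Set X) with hAdef
  set A' := (P : Subgroup X) ⊓ centralizer ({y} : Set X) with hA'def
  set C := centralizer ({y} : Set X) with hC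
  obtain ⟨T', hT'⟩ := ((P.isPGroup'.to_le hA'.le).comap_of_injective C.subtype C.subtype_injective :
    IsPGroup 2 (A'.comap C.subtype)).exists_le_sylow
  have hT'eq : (T' : Subgroup C) = A'.comap C.subtype := by
    refine (Subgroup.eq_of_le_of_card_ge hT' ?_).symm
    have hc : Nat.card (A'.comap C.subtype) = 2 * Nat.card Z := by
      show Nat.card (A'.subgroupOf C) = _
      rw [Nat.card_congr (subgroupOfEquivOfLe inf_le_right).toEquiv, hA'.card]
    rw [hc]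
    have hTp : IsPGroup 2 ((T' : Subgroup C).map C.subtype) := T'.isPGroup'.map _
    obtain ⟨S, hS⟩ := hTp.exists_le_sylow
    have hcS : Nat.card (S : Subgroup X) = 4 * Nat.card Z := by
      rw [S.card_eq_multiplicity, ← P.card_eq_multiplicity, h.card]
    obtain ⟨t, ht⟩ := Subgroup.card_dvd_of_le hS
    rw [← Subgroup.card_map_of_injective C.subtype_injective]
    rw [hcS] at ht
    by_contra hlt
    push Not at hlt
    have ht1 : t = 1 := by
      rcases Nat.eq_zero_or_pos t with rfl | h0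
      · have := Nat.card_pos (α := Z); omega
      · nlinarith
    have heq : (T' : Subgroup C).map C.subtype = (S : Subgroup X) :=
      Subgroup.eq_of_le_of_card_ge hS (by rw [hcS, ht, ht1, mul_one])
    obtain ⟨m, hm⟩ := MulAction.exists_smul_eq X S P
    have hSC : ∀ s ∈ (S : Subgroup X), Commute s y := fun s hs => by
      rw [← heq] at hs
      obtain ⟨c, -, rfl⟩ := hs
      exact mem_centralizer_singleton_iff.1 c.2
    have hyS : y ∈ (S : Subgroup X) := heq ▸ ⟨⟨y, mem_centralizer_singleton_iff.2 rfl⟩,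
      hT' ⟨hg, mem_centralizer_singleton_iff.2 rfl⟩, rfl⟩
    refine hxc (m * g) (h.cen _ ?_ ?_)
    · rw [← hm, Sylow.coe_subgroup_smul, ← Grp.map_conj_eq_smul]
      exact ⟨y, hyS, by rw [hy]; simp [mul_assoc]⟩
    · intro p hp
      rw [← hm, Sylow.coe_subgroup_smul, ← Grp.map_conj_eq_smul] at hp
      obtain ⟨s, hs, rfl⟩ := hp
      have h5 := (hSC s hs).symm.map (MulAut.conj m).toMonoidHom
      rw [show (MulAut.conj m).toMonoidHom y = m * g * x * (m * g)⁻¹ by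
        show m * y * m⁻¹ = _; rw [hy]; group] at h5
      exact h5
  have hgA : A.map (MulAut.conj g).toMonoidHom ≤ C := by
    rintro _ ⟨a, ha, rfl⟩
    refine mem_centralizer_singleton_iff.2 ?_
    have hax : Commute a x := mem_centralizer_singleton_iff.1 ha.2
    exact (hax.map (MulAut.conj g).toMonoidHom).eq
  obtain ⟨T, hT⟩ := ((((P.isPGroup'.to_le hA.le).map (MulAut.conj g).toMonoidHom)).comap_of_injective
    C.subtype C.subtype_injective : IsPGroup 2 ((A.map (MulAut.conj g).toMonoidHom).comap C.subtype)).exists_le_sylow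
  obtain ⟨c, hc⟩ := MulAction.exists_smul_eq C T T'
  have hsplit : ∀ a ∈ A, ((c : X) * g) * a * ((c : X) * g)⁻¹ ∈ (P : Subgroup X) := by
    intro a ha
    have h1 : g * a * g⁻¹ ∈ C := hgA ⟨a, ha, rfl⟩
    have h3 : c * ⟨_, h1⟩ * c⁻¹ ∈ ((c • T : Sylow 2 C) : Subgroup C) := by
      rw [Sylow.coe_subgroup_smul, ← Grp.map_conj_eq_smul]
      exact ⟨_, hT ⟨a, ha, rfl⟩, rfl⟩
    rw [hc, hT'eq] at h3
    have h4 := hA'.le h3
    simpa [mul_assoc] using h4
  obtain ⟨n, hn, k, hk, e⟩ := h.exists_split hA hsplit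
  have hcy : (c : X) * y * (c : X)⁻¹ = y := mul_inv_eq_iff_eq_mul.2 (mem_centralizer_singleton_iff.1 c.2)
  have ey : y = n * (k * x * k⁻¹) * n⁻¹ := by
    calc y = (c : X) * g * x * ((c : X) * g)⁻¹ := by
          conv_lhs => rw [← hcy]
          rw [hy]; group
      _ = _ := by rw [e]; group
  have hkx := h.side_diff hX hO hA hk (h.mem_side hx)
  have hkP : k * x * k⁻¹ ∈ (P : Subgroup X) := hA.le (h.norm_mem hk (h.mem_side hx))
  rcases h.normalizer_inner hX hO hn hkP with e' | e'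
  · rw [ey, e']; exact hkx
  · rw [ey, e', (h.comm z h.hz _ hkP).eq, ← mul_assoc]
    exact mul_mem hkx (subset_closure h.z_zSet)

end Quarter

/-- The Sylow subgroup is dihedral of order eight. -/
theorem dihedral_of_center_index_four [IsSimpleGroup X] (hX : ¬ IsMulCommutative X)
    (hO : Cfsg.pPrimeCore 2 X = ⊥) (P : Sylow 2 X) (hna : ¬ IsMulCommutative (P : Subgroup X))
    (hZ : (center (P : Subgroup X)).index = 4) :
    Nonempty ((P : Subgroup X) ≃* DihedralGroup 4) := by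
  haveI : Fact (Nat.Prime 2) := ⟨Nat.prime_two⟩
  obtain ⟨z, h⟩ := exists_quarter P hna hZ
  have hcomm : commutator X = ⊤ :=
    ((inferInstance : (commutator X).Normal).eq_bot_or_eq_top).resolve_left fun e =>
      hX ⟨⟨fun a b => commutatorElement_eq_one_iff_mul_comm.1
        (mem_bot.1 (e ▸ commutator_mem_commutator (mem_top a) (mem_top b)))⟩⟩
  have hPD : (P : Subgroup X) ≤ closure (zSet P z) := fun x hx =>
    h.commutator_le hX hO ⟨hcomm ▸ mem_top x, hx⟩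
  obtain ⟨a, ha, haz⟩ := h.exists_moved hX hO
  obtain ⟨A, g, hA, haA, hg, hga, hgz⟩ := h.zSet_moved ha haz
  have haZ := h.zSet_not_center ha haz
  obtain ⟨b, hb, hbA⟩ : ∃ b ∈ zSet P z, b ∉ A := by
    by_contra hh
    push Not at hh
    obtain ⟨p, hp, hpA⟩ := h.exists_outside hA
    exact hpA ((closure_le A).2 hh (hPD hp))
  have hab : ¬ Commute a b := fun c => hbA (h.mem_of_commute hA haA haZ hb.1 c.symm)
  have hbz : b ≠ z := fun e => hbA (e ▸ hA.center_le h.hz)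
  obtain ⟨B, k, hB, hbB, hk, hkb, hkz⟩ := h.zSet_moved hb hbz
  have ha2 : a⁻¹ = a := inv_eq_of_mul_eq_one_right (h.zSet_sq ha)
  have hb2 : b⁻¹ = b := inv_eq_of_mul_eq_one_right (h.zSet_sq hb)
  have hsq : (a * b) * (a * b) = z := by
    calc (a * b) * (a * b) = a * (b * a * b⁻¹) * (b * b) := by group
      _ = a * (z * a) := by rw [h.conj_noncomm hb.1 ha.1 fun c => hab c.symm, h.zSet_sq hb, mul_one]
      _ = z * (a * a) := by rw [← mul_assoc, ← (h.comm z h.hz a ha.1).eq, mul_assoc]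
      _ = z := by rw [h.zSet_sq ha, mul_one]
  have hle : closure (zSet P z) ≤ closure ({a, b} : Set X) := by
    rw [closure_le]
    intro y hy
    have hab' : a * b ∈ closure ({a, b} : Set X) :=
      mul_mem (subset_closure (Set.mem_insert _ _)) (subset_closure (Set.mem_insert_of_mem _ rfl))
    have hzm : z ∈ closure ({a, b} : Set X) := hsq ▸ mul_mem hab' hab'
    by_cases hya : Commute a y
    · rcases h.zSet_in_side hA hg hgz hy (h.mem_of_commute hA haA haZ hy.1 hya.symm) with e | e | e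
      · exact e ▸ hzm
      · rw [e, hga]; exact subset_closure (Set.mem_insert _ _)
      · rw [e, hga]; exact mul_mem hzm (subset_closure (Set.mem_insert _ _))
    by_cases hyb : Commute b y
    · rcases h.zSet_in_side hB hk hkz hy
          (h.mem_of_commute hB hbB (h.zSet_not_center hb hbz) hy.1 hyb.symm) with e | e | e
      · exact e ▸ hzm
      · rw [e, hkb]; exact subset_closure (Set.mem_insert_of_mem _ rfl)
      · rw [e, hkb]; exact mul_mem hzm (subset_closure (Set.mem_insert_of_mem _ rfl))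
    exact (h.no_three hA hg hgz ha hb hy hab hya hyb).elim
  have heq : closure ({a, b} : Set X) = (P : Subgroup X) := by
    refine le_antisymm ((closure_le _).2 ?_) (hPD.trans hle)
    rintro w (rfl | rfl)
    exacts [ha.1, hb.1]
  have hord : ∀ {y : X}, y ∈ zSet P z → orderOf y = 2 := fun hy =>
    orderOf_eq_prime (by rw [pow_two, h.zSet_sq hy]) (h.zSet_ne_one hy)
  obtain ⟨e⟩ := Invol.nonempty_mulEquiv_dihedralGroup (hord ha) (hord hb)
  have h4 : orderOf (a * b) = 4 := by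
    refine orderOf_eq_prime_pow (p := 2) (n := 1) ?_ ?_
    · rw [pow_one, pow_two, hsq]; exact h.z1
    · rw [show 2 ^ (1 + 1) = 2 * 2 from rfl, pow_mul, pow_two (a * b), hsq, pow_two, h.zz]
  rw [h4] at e
  exact ⟨(MulEquiv.subgroupCongr heq.symm).trans e⟩

end Cfsg.Agent.Transfer.CentralFour
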