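import Cfsg.Agent.Lib.Transfer.CentralFour.Basic

/-!
# The orbit of the commutator under the normalizer of a side

The conjugates of `z` by the normalizer of a side form at most one triple `z`, `a`, `z a`; the elements of
the centre fixed under every transport form a subgroup meeting `⟨z⟩` trivially.
-/

set_option autoImplicit false
set_option linter.style.haveILetI false
set_option linter.unusedSectionVars false

namespace Cfsg.Agent.Transfer.CentralFour.Quarter

open Subgroup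

universe u

variable {X : Type u} [Group X] [Finite X] {P : Sylow 2 X} {Z : Subgroup X} {z : X} (h : Quarter P Z z)
  {A : Subgroup X}
include h

theorem norm_mem {g x : X} (hg : g ∈ normalizer (A : Set X)) (hx : x ∈ A) : g * x * g⁻¹ ∈ A :=
  (mem_normalizer_iff.1 hg x).1 hx

theorem norm_mem' {g x : X} (hg : g ∈ normalizer (A : Set X)) (hx : x ∈ A) : g⁻¹ * x * g ∈ A := by
  have := (mem_normalizer_iff.1 (inv_mem hg) x).1 hx
  rwa [inv_inv] at this

/-- A normalizer element fixing `z` normalizes the centre. -/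
theorem same_centre (hA : Side P Z A) {k : X} (hk : k ∈ normalizer (A : Set X)) (hkz : k * z * k⁻¹ = z)
    {w : X} (hw : w ∈ Z) : k * w * k⁻¹ ∈ Z := by
  classical
  haveI : Fact (Nat.Prime 2) := ⟨Nat.prime_two⟩
  by_contra hu
  set u := k * w * k⁻¹ with hu_def
  have huA : u ∈ A := h.norm_mem hk (hA.center_le hw)
  obtain ⟨p, hp, hpA⟩ := h.exists_outside hA
  have hpN := h.le_normalizer hA hp
  let φ : normalizer (A : Set X) →* Equiv.Perm A := (MulAut.toPerm A).comp A.normalizerMonoidHom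
  have hφ : ∀ (n : normalizer (A : Set X)) (x : A), ((φ n x : A) : X) = (n : X) * x * (n : X)⁻¹ := fun n x => rfl
  set p' : normalizer (A : Set X) := ⟨p, hpN⟩
  set q' : normalizer (A : Set X) := ⟨k * p * k⁻¹, mul_mem (mul_mem hk hpN) (inv_mem hk)⟩
  set f := φ p'
  set f' := φ q'
  have hzA : z ∈ A := hA.center_le h.hz
  have hfz : ∀ x : A, ((f x : A) : X) = x ∨ ((f x : A) : X) = z * x := fun x => by
    rw [hφ]; exact h.der p hp x (hA.le x.2)
  have hfz' : ∀ x : A, ((f' x : A) : X) = x ∨ ((f' x : A) : X) = z * x := fun x => by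
    rw [hφ]
    show k * p * k⁻¹ * x * (k * p * k⁻¹)⁻¹ = x ∨ k * p * k⁻¹ * x * (k * p * k⁻¹)⁻¹ = z * x
    have hx' : k⁻¹ * x * k ∈ (P : Subgroup X) := hA.le (h.norm_mem' hk x.2)
    have e0 : k * p * k⁻¹ * x * (k * p * k⁻¹)⁻¹ = k * (p * (k⁻¹ * x * k) * p⁻¹) * k⁻¹ := by group
    rw [e0]
    rcases h.der p hp _ hx' with e | e <;> rw [e]
    · exact Or.inl (by group)
    · refine Or.inr ?_
      rw [show k * (z * (k⁻¹ * x * k)) * k⁻¹ = k * z * k⁻¹ * x by group, hkz]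
  have fix_z : ∀ g : Equiv.Perm A, (∃ n, φ n = g ∧ (n : X) * z * (n : X)⁻¹ = z) →
      ∀ x : A, ((g ⟨z * x, mul_mem hzA x.2⟩ : A) : X) = z * g x := by
    rintro g ⟨n, rfl, hn⟩ x
    rw [hφ, hφ]
    calc (n : X) * (z * x) * (n : X)⁻¹ = (n : X) * z * (n : X)⁻¹ * ((n : X) * x * (n : X)⁻¹) := by group
      _ = _ := by rw [hn]
  have hpz : p * z * p⁻¹ = z := mul_inv_eq_iff_eq_mul.2 (h.comm z h.hz p hp).eq.symm
  have hf1 := fix_z f ⟨p', rfl, hpz⟩
  have hf2 := fix_z f' ⟨q', rfl, by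
    show k * p * k⁻¹ * z * (k * p * k⁻¹)⁻¹ = z
    calc k * p * k⁻¹ * z * (k * p * k⁻¹)⁻¹ = k * (p * (k⁻¹ * z * k) * p⁻¹) * k⁻¹ := by group
      _ = k * (p * z * p⁻¹) * k⁻¹ := by
        rw [show k⁻¹ * z * k = z by
          calc k⁻¹ * z * k = k⁻¹ * (k * z * k⁻¹) * k := by rw [hkz]
            _ = z := by group]
      _ = z := by rw [hpz, hkz]⟩
  have eqz : ∀ {x y : A}, (y : X) = z * x → y = ⟨z * x, mul_mem hzA x.2⟩ := fun e => Subtype.ext e
  have comm : f * f' = f' * f := by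
    refine Equiv.ext fun x => Subtype.ext ?_
    show ((f (f' x) : A) : X) = f' (f x)
    rcases hfz x with e | e <;> rcases hfz' x with e' | e'
    · rw [show f' x = x from Subtype.ext e', show f x = x from Subtype.ext e, e']
    · rw [eqz e', hf1, show f x = x from Subtype.ext e, e']
    · rw [show f' x = x from Subtype.ext e', e, eqz e, hf2, e']
    · rw [eqz e', hf1, eqz e, hf2, e']
  have invol : ∀ g : Equiv.Perm A, (∀ x : A, ((g x : A) : X) = x ∨ ((g x : A) : X) = z * x) →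
      (∀ x : A, ((g ⟨z * x, mul_mem hzA x.2⟩ : A) : X) = z * g x) → g * g = 1 := by
    intro g hg hgz
    refine Equiv.ext fun x => Subtype.ext ?_
    show ((g (g x) : A) : X) = x
    rcases hg x with e | e
    · rw [show g x = x from Subtype.ext e]; exact e
    · rw [eqz e, hgz, e, ← mul_assoc, h.zz, one_mul]
  have huu : f ⟨u, huA⟩ ≠ ⟨u, huA⟩ := fun e => by
    have : p * u * p⁻¹ = u := congrArg Subtype.val e
    rw [h.conj_of_outside hA hp hpA huA hu, mul_eq_right] at this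
    exact h.z1 this
  have hu' : f' ⟨u, huA⟩ = ⟨u, huA⟩ := Subtype.ext (by
    show k * p * k⁻¹ * u * (k * p * k⁻¹)⁻¹ = u
    calc k * p * k⁻¹ * u * (k * p * k⁻¹)⁻¹ = k * (p * w * p⁻¹) * k⁻¹ := by rw [hu_def]; group
      _ = _ := by rw [← (h.comm w hw p hp).eq, mul_inv_cancel_right])
  have hne : f ≠ f' := fun e => huu (by rw [e]; exact hu')
  have hf1' : f ≠ 1 := fun e => huu (by rw [e]; rfl)
  have hf2' : f' ≠ 1 := fun e => by
    obtain ⟨x, hx, hxZ⟩ := h.exists_not_mem hA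
    have h1 : (f' ⟨k * x * k⁻¹, h.norm_mem hk hx⟩ : A) = ⟨k * x * k⁻¹, h.norm_mem hk hx⟩ := by rw [e]; rfl
    have h2 : k * p * k⁻¹ * (k * x * k⁻¹) * (k * p * k⁻¹)⁻¹ = k * x * k⁻¹ := congrArg Subtype.val h1
    rw [show k * p * k⁻¹ * (k * x * k⁻¹) * (k * p * k⁻¹)⁻¹ = k * (p * x * p⁻¹) * k⁻¹ by group,
      h.conj_of_outside hA hp hpA hx hxZ] at h2
    exact h.z1 (mul_eq_right.1 (mul_left_cancel (mul_right_cancel h2)))
  obtain ⟨K, hK, -, hKmem⟩ := Transfer.TwoByCyclic.exists_klein (invol f hfz hf1) (invol f' hfz' hf2) comm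
    hf1' hf2' hne
  have hKr : K ≤ φ.range := fun g hg => by
    rcases (hKmem g).1 hg with rfl | rfl | rfl | rfl
    exacts [one_mem _, ⟨p', rfl⟩, ⟨q', rfl⟩, mul_mem ⟨p', rfl⟩ ⟨q', rfl⟩]
  have hAk : A.subgroupOf (normalizer (A : Set X)) ≤ φ.ker := fun a ha => by
    rw [MonoidHom.mem_ker]
    refine Equiv.ext fun x => Subtype.ext ?_
    rw [hφ]
    exact mul_inv_eq_iff_eq_mul.2 (hA.comm (a : X) ha x x.2).eq
  have hd : Nat.card A * 4 ∣ Nat.card X := by
    refine Dvd.dvd.trans ?_ (Subgroup.card_subgroup_dvd_card (normalizer (A : Set X)))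
    rw [← φ.ker.card_mul_index, Subgroup.index_ker]
    refine Nat.mul_dvd_mul ?_ (hK ▸ Subgroup.card_dvd_of_le hKr)
    rw [← Nat.card_congr (subgroupOfEquivOfLe (Subgroup.le_normalizer (H := A))).toEquiv]
    exact Subgroup.card_dvd_of_le hAk
  obtain ⟨i, hi⟩ := IsPGroup.iff_card.1 P.isPGroup'
  have e8 : Nat.card A * 4 = 2 ^ (i + 1) := by rw [pow_succ, ← hi, hA.card, h.card]; ring
  have := P.pow_dvd_card_of_pow_dvd_card (e8 ▸ hd)
  rw [hi, Nat.pow_dvd_pow_iff_le_right Nat.one_lt_two] at this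
  omega

/-- The conjugates of `z` under the normalizer of a side lie in one triple. -/
theorem orbit (hA : Side P Z A) {g k : X} (hg : g ∈ normalizer (A : Set X)) (hk : k ∈ normalizer (A : Set X))
    (hgz : g * z * g⁻¹ ≠ z) :
    k * z * k⁻¹ = z ∨ k * z * k⁻¹ = g * z * g⁻¹ ∨ k * z * k⁻¹ = z * (g * z * g⁻¹) := by
  set a := g * z * g⁻¹ with ha_def
  set b := k * z * k⁻¹ with hb_def
  by_contra hh
  push Not at hh
  obtain ⟨hb1, hb2, hb3⟩ := hh
  have hzA : z ∈ A := hA.center_le h.hz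
  have haA : a ∈ A := h.norm_mem hg hzA
  have hbA : b ∈ A := h.norm_mem hk hzA
  have haZ : a ∉ Z := fun e => hgz (h.z_central e)
  have hbZ : b ∉ Z := fun e => hb1 (h.z_central e)
  have haa : a * a = 1 := by
    calc a * a = g * (z * z) * g⁻¹ := by rw [ha_def]; group
      _ = 1 := by rw [h.zz]; group
  obtain ⟨p, hp, hpA⟩ := h.exists_outside hA
  have hp' : p⁻¹ ∈ (P : Subgroup X) := inv_mem hp
  have hpA' : p⁻¹ ∉ A := fun e => hpA (inv_inv p ▸ inv_mem e)
  have hpN := h.le_normalizer hA hp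
  -- the action of the conjugate of `p`
  set q := g * p * g⁻¹ with hq
  have qmove : ∀ x ∈ A, g⁻¹ * x * g ∉ Z → q * x * q⁻¹ = a * x := by
    intro x hx hxZ
    calc q * x * q⁻¹ = g * (p * (g⁻¹ * x * g) * p⁻¹) * g⁻¹ := by rw [hq]; group
      _ = g * (z * (g⁻¹ * x * g)) * g⁻¹ := by rw [h.conj_of_outside hA hp hpA (h.norm_mem' hg hx) hxZ]
      _ = a * x := by rw [ha_def]; group
  have hqz : q * z * q⁻¹ = a * z := qmove z hzA fun e => by
    have e' := h.z_central (g := g⁻¹) (by rwa [inv_inv])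
    rw [inv_inv] at e'
    exact hgz (by
      calc g * z * g⁻¹ = g * (g⁻¹ * z * g) * g⁻¹ := by rw [e']
        _ = z := by group)
  have hqb : q * b * q⁻¹ = a * b := qmove b hbA fun e => by
    have e' := h.z_central (g := g⁻¹ * k) (by
      rwa [show g⁻¹ * k * z * (g⁻¹ * k)⁻¹ = g⁻¹ * b * g by rw [hb_def]; group])
    exact hb2 (by
      calc b = g * (g⁻¹ * k * z * (g⁻¹ * k)⁻¹) * g⁻¹ := by rw [hb_def]; group
        _ = a := by rw [e'])
  have hpb : p⁻¹ * b * p = z * b := by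
    have := h.conj_of_outside hA hp' hpA' hbA hbZ
    rwa [inv_inv] at this
  have hfix : (p * g) * p * (p * g)⁻¹ * b * ((p * g) * p * (p * g)⁻¹)⁻¹ = b := by
    calc (p * g) * p * (p * g)⁻¹ * b * ((p * g) * p * (p * g)⁻¹)⁻¹
        = p * (q * (p⁻¹ * b * p) * q⁻¹) * p⁻¹ := by rw [hq]; group
      _ = p * (q * z * q⁻¹ * (q * b * q⁻¹)) * p⁻¹ := by rw [hpb]; group
      _ = p * (a * (z * a) * b) * p⁻¹ := by rw [hqz, hqb]; group
      _ = p * (z * b) * p⁻¹ := by
        rw [(hA.comm z hzA a haA).eq, ← mul_assoc a a z, haa, one_mul]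
      _ = p * z * p⁻¹ * (p * b * p⁻¹) := by group
      _ = z * (z * b) := by
        rw [h.conj_of_outside hA hp hpA hbA hbZ,
          mul_inv_eq_iff_eq_mul.2 (h.comm z h.hz p hp).eq.symm]
      _ = b := by rw [← mul_assoc, h.zz, one_mul]
  set m := p * g with hm
  have hmN : m ∈ normalizer (A : Set X) := mul_mem hpN hg
  have hcZ : m⁻¹ * b * m ∈ Z := by
    by_contra hn
    have h1 := h.conj_of_outside hA hp hpA (h.norm_mem' hmN hbA) hn
    rw [show p * (m⁻¹ * b * m) * p⁻¹ = m⁻¹ * (m * p * m⁻¹ * b * (m * p * m⁻¹)⁻¹) * m by group, hfix] at h1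
    exact h.z1 (mul_eq_right.1 h1.symm)
  have e := h.z_central (g := m⁻¹ * k) (by
    rwa [show m⁻¹ * k * z * (m⁻¹ * k)⁻¹ = m⁻¹ * b * m by rw [hb_def]; group])
  refine hb3 ?_
  calc b = m * (m⁻¹ * k * z * (m⁻¹ * k)⁻¹) * m⁻¹ := by rw [hb_def]; group
    _ = p * a * p⁻¹ := by rw [e, hm, ha_def]; group
    _ = z * a := h.conj_of_outside hA hp hpA haA haZ

/-- The elements of the centre fixed in one transport are fixed in all. -/
theorem axes (hA : Side P Z A) {g k : X} (hg : g ∈ normalizer (A : Set X)) (hk : k ∈ normalizer (A : Set X))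
    (hgz : g * z * g⁻¹ ≠ z) {w : X} (hw : w ∈ Z) (hgw : g⁻¹ * w * g ∈ Z) : k⁻¹ * w * k ∈ Z := by
  obtain ⟨p, hp, hpA⟩ := h.exists_outside hA
  have hpN := h.le_normalizer hA hp
  rcases h.orbit hA hg hk hgz with e | e | e
  · have := h.same_centre hA (inv_mem hk) (by
      calc k⁻¹ * z * k⁻¹⁻¹ = k⁻¹ * (k * z * k⁻¹) * k := by rw [e]; group
        _ = z := by group) hw
    rwa [inv_inv] at this
  · have := h.same_centre hA (mul_mem (inv_mem hk) hg) (by
      calc k⁻¹ * g * z * (k⁻¹ * g)⁻¹ = k⁻¹ * (g * z * g⁻¹) * k := by group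
        _ = z := by rw [← e]; group) hgw
    rwa [show k⁻¹ * g * (g⁻¹ * w * g) * (k⁻¹ * g)⁻¹ = k⁻¹ * w * k by group] at this
  · have haA : g * z * g⁻¹ ∈ A := h.norm_mem hg (hA.center_le h.hz)
    have haZ : g * z * g⁻¹ ∉ Z := fun e' => hgz (h.z_central e')
    have := h.same_centre hA (mul_mem (inv_mem hk) (mul_mem hpN hg)) (by
      calc k⁻¹ * (p * g) * z * (k⁻¹ * (p * g))⁻¹ = k⁻¹ * (p * (g * z * g⁻¹) * p⁻¹) * k := by group
        _ = z := by rw [h.conj_of_outside hA hp hpA haA haZ, ← e]; group) hgw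
    rwa [show k⁻¹ * (p * g) * (g⁻¹ * w * g) * (k⁻¹ * (p * g))⁻¹ = k⁻¹ * (p * w * p⁻¹) * k by group,
      mul_inv_eq_iff_eq_mul.2 (h.comm w hw p hp).eq.symm] at this

/-- Each central element is fixed in a transport up to a factor `z`. -/
theorem axes_split (hA : Side P Z A) {g : X} (hg : g ∈ normalizer (A : Set X)) (hgz : g * z * g⁻¹ ≠ z)
    {w : X} (hw : w ∈ Z) : g⁻¹ * w * g ∈ Z ∨ g⁻¹ * (z * w) * g ∈ Z := by
  by_cases h1 : g⁻¹ * w * g ∈ Z
  · exact Or.inl h1
  refine Or.inr ?_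
  have h2 : g⁻¹ * z * g ∉ Z := fun e => by
    have e' := h.z_central (g := g⁻¹) (by rwa [inv_inv])
    rw [inv_inv] at e'
    exact hgz (by
      calc g * z * g⁻¹ = g * (g⁻¹ * z * g) * g⁻¹ := by rw [e']
        _ = z := by group)
  rw [show g⁻¹ * (z * w) * g = g⁻¹ * z * g * (g⁻¹ * w * g) by group]
  exact h.mul_mem_center hA (h.norm_mem' hg (hA.center_le h.hz)) (h.norm_mem' hg (hA.center_le hw)) h2 h1

theorem axes_not_z {g : X} (hgz : g * z * g⁻¹ ≠ z) : g⁻¹ * z * g ∉ Z := fun e => by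
  have e' := h.z_central (g := g⁻¹) (by rwa [inv_inv])
  rw [inv_inv] at e'
  exact hgz (by
    calc g * z * g⁻¹ = g * (g⁻¹ * z * g) * g⁻¹ := by rw [e']
      _ = z := by group)

/-- `z` is no square in the centre. -/
theorem not_square (hA : Side P Z A) {g : X} (hg : g ∈ normalizer (A : Set X)) (hgz : g * z * g⁻¹ ≠ z)
    {w : X} (hw : w ∈ Z) : w * w ≠ z := by
  intro e
  refine h.axes_not_z hgz ?_
  rcases h.axes_split hA hg hgz hw with e' | e'
  · rw [← e, show g⁻¹ * (w * w) * g = (g⁻¹ * w * g) * (g⁻¹ * w * g) by group]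
    exact mul_mem e' e'
  · have h2 : z * w * (z * w) = z := by
      rw [mul_assoc, ← mul_assoc w, (h.comm w hw z h.z_mem).eq, mul_assoc, e, h.zz, mul_one]
    rw [← h2, show g⁻¹ * (z * w * (z * w)) * g = (g⁻¹ * (z * w) * g) * (g⁻¹ * (z * w) * g) by group]
    exact mul_mem e' e'

end Cfsg.Agent.Transfer.CentralFour.Quarter
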